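import Mathlib
import Cfsg.Agent.Lib.TwoGroups85.WreathModel

/-!
The order and the centre of a Sylow 2-subgroup of the alternating group of degree eight.
-/

set_option autoImplicit false
set_option maxRecDepth 100000

namespace CfsgLib.AltEightThree

open CfsgLib.TwoGroups85

/-- The sign of an element of the model. -/
def evSign (w : WreathDih) : ℤˣ :=
  Equiv.Perm.sign (WreathDih.sym w.l) * Equiv.Perm.sign (WreathDih.sym w.r)

theorem sign_perm (w : WreathDih) : Equiv.Perm.sign (WreathDih.perm w) = evSign w := by
  rw [WreathDih.perm, map_mul, Equiv.Perm.sign_prodCongrRight, Fintype.prod_bool, evSign]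
  cases w.s <;> simp [mul_comm, Equiv.Perm.sign_prodCongrLeft]
  decide

theorem ev_card : (Finset.univ.filter fun w : WreathDih => evSign w = 1).card = 64 := by
  decide +kernel

theorem ev_center : ∀ w : WreathDih, evSign w = 1 → (∀ v, evSign v = 1 → v * w = w * v) →
    w = 1 ∨ w = WreathDih.zc := by decide +kernel

theorem ev_zc : evSign WreathDih.zc = 1 ∧ WreathDih.zc ≠ 1 := by decide +kernel

/-- A Sylow 2-subgroup of the alternating group of degree eight has order 64 and centre of order 2. -/
theorem sylow_alt_eight (P : Sylow 2 ↥(alternatingGroup (Fin 8))) :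
    Nat.card (P : Subgroup ↥(alternatingGroup (Fin 8))) = 64 ∧
      Nat.card (Subgroup.center ↥(P : Subgroup ↥(alternatingGroup (Fin 8)))) = 2 := by
  haveI : Fact (Nat.Prime 2) := ⟨Nat.prime_two⟩
  let e : Bool × ZMod 4 ≃ Fin 8 := Fintype.equivFinOfCardEq (by simp)
  let f : WreathDih →* Equiv.Perm (Fin 8) := e.permCongrHom.toMonoidHom.comp WreathDih.permHom
  have hf : Function.Injective f := e.permCongrHom.injective.comp WreathDih.permHom_injective
  have hsign : ∀ w, Equiv.Perm.sign (f w) = evSign w := fun w => by
    rw [← sign_perm w]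
    exact Equiv.Perm.sign_permCongr e _
  let Ev : Subgroup WreathDih := (Equiv.Perm.sign.comp f).ker
  have hmem : ∀ w, w ∈ Ev ↔ evSign w = 1 := fun w => by
    rw [← hsign w]
    rfl
  let g : Ev →* alternatingGroup (Fin 8) :=
    (f.comp Ev.subtype).codRestrict _ fun w => Equiv.Perm.mem_alternatingGroup.2
      ((hsign w.1).trans ((hmem w.1).1 w.2))
  have hg : Function.Injective g := fun u v h => Subtype.ext (hf (congrArg Subtype.val h))
  have hEv : Nat.card Ev = 64 := by
    rw [← ev_card, Nat.card_eq_fintype_card, Fintype.card_subtype]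
    congr 1
    ext w
    simp [hmem]
  have hc : Nat.card g.range = 64 := by
    rw [← Nat.card_congr (MonoidHom.ofInjective hg).toEquiv, hEv]
  let T : Sylow 2 ↥(alternatingGroup (Fin 8)) := Sylow.ofCard g.range (by
    rw [hc, nat_card_alternatingGroup, Nat.card_eq_fintype_card, Fintype.card_fin]
    rw [show Nat.factorial 8 / 2 = 2 ^ 6 * 315 by rfl,
      Nat.factorization_mul (by norm_num) (by norm_num), Finsupp.add_apply,
      Nat.Prime.factorization_pow Nat.prime_two, Finsupp.single_eq_same,
      Nat.factorization_eq_zero_of_not_dvd (by norm_num), add_zero]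
    rfl)
  let E : Ev ≃* ↥(P : Subgroup ↥(alternatingGroup (Fin 8))) :=
    (MonoidHom.ofInjective hg).trans (T.equiv P)
  refine ⟨by rw [← Nat.card_congr E.toEquiv, hEv], ?_⟩
  rw [← Nat.card_congr (Subgroup.centerCongr E).toEquiv]
  have hset : ((Subgroup.center Ev : Subgroup Ev) : Set Ev) =
      {1, ⟨WreathDih.zc, (hmem _).2 ev_zc.1⟩} := by
    ext w
    rw [SetLike.mem_coe, Subgroup.mem_center_iff, Set.mem_insert_iff, Set.mem_singleton_iff]
    constructor
    · intro h
      rcases ev_center w.1 ((hmem _).1 w.2) (fun v hv => congrArg Subtype.val (h ⟨v, (hmem _).2 hv⟩))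
        with h1 | h1
      · exact Or.inl (Subtype.ext h1)
      · exact Or.inr (Subtype.ext h1)
    · rintro (rfl | rfl) v
      · simp
      · exact Subtype.ext (WreathDih.zc_central v)
  rw [← SetLike.coe_sort_coe, hset, Nat.card_coe_set_eq, Set.ncard_pair]
  exact fun h => ev_zc.2 (congrArg Subtype.val h).symm

end CfsgLib.AltEightThree
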