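import Cfsg.Agent.Lib.AltEightThree.Final
import Cfsg.Agent.Lib.AltEightThree.EightSylow
import Cfsg.Prelude.Def_CaseTheorems

/-!
The configuration from a Sylow 2-subgroup of the type of `A₈`, three classes of involutions and
`N(A)/A O(N(A)) ≅ A₅`.
-/

set_option autoImplicit false

namespace CfsgLib.AltEightThree

open Subgroup CfsgLib.TwoGroups.FT
open scoped symmDiff

theorem five_cycle : ∃ π : Equiv.Perm (Fin 5),
    Equiv.Perm.sign π = 1 ∧ π ^ 5 = 1 ∧ π ≠ 1 := by decide +kernel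

theorem tame_sq_card : (Finset.univ.filter fun π : Equiv.Perm (Fin 5) => Tame π ∧ π ^ 2 = 1).card = 4 := by
  decide +kernel

theorem tame_sq_conj : ∀ π π' : Equiv.Perm (Fin 5), Tame π → π ^ 2 = 1 → π ≠ 1 → Tame π' →
    π' ^ 2 = 1 → π' ≠ 1 → ∃ σ : Equiv.Perm (Fin 5), Tame σ ∧ σ * π * σ⁻¹ = π' := by decide +kernel

theorem tame_conj : ∀ σ π : Equiv.Perm (Fin 5), Tame σ → Tame π → π ^ 2 = 1 →
    Tame (σ⁻¹ * π * σ) ∧ (σ⁻¹ * π * σ) ^ 2 = 1 := by decide +kernel

theorem fixed_is_commutator : ∀ π : Equiv.Perm (Fin 5), Tame π → π ^ 2 = 1 → π ≠ 1 →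
    ∀ s : Finset (Fin 5), (s.image π = s ∨ s.image π = sᶜ) →
      ∃ r : Finset (Fin 5), r ∆ r.image π = s ∨ r ∆ r.image π = sᶜ := by decide +kernel

theorem two_transitive : ∀ i j k l : Fin 5, i ≠ j → k ≠ l →
    ∃ π : Equiv.Perm (Fin 5), Equiv.Perm.sign π = 1 ∧ π i = k ∧ π j = l := by decide +kernel

theorem small_of_large : ∀ s : Finset (Fin 5), s ≠ ∅ → s ≠ Finset.univ →
    s.card = 1 ∨ s.card = 2 ∨ sᶜ.card = 1 ∨ sᶜ.card = 2 := by decide +kernel

theorem low_inj : ∀ s u : Finset (Fin 4), (s.map Fin.castSuccEmb ∆ u.map Fin.castSuccEmb = ∅ ∨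
    s.map Fin.castSuccEmb ∆ u.map Fin.castSuccEmb = Finset.univ) → s = u := by decide +kernel

variable {G : Type*} [Group G] [Finite G]

/-- The configuration exists. -/
theorem exists_data (S : Sylow 2 G) (P : Sylow 2 ↥(alternatingGroup (Fin 8)))
    (hS : Nonempty (↥(S : Subgroup G) ≃* ↥(P : Subgroup ↥(alternatingGroup (Fin 8)))))
    (h3 : Nat.card {c : ConjClasses G // ∃ x ∈ c.carrier, orderOf x = 2} = 3)
    (A : Subgroup G) (hA : Cfsg.IsElementaryAbelian 2 A) (hA16 : Nat.card ↥A = 16)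
    (hNA : ∃ (_ : (A.subgroupOf (normalizer (A : Set G)) ⊔
        Cfsg.oddCore ↥(normalizer (A : Set G))).Normal),
      Nonempty (↥(normalizer (A : Set G)) ⧸ (A.subgroupOf (normalizer (A : Set G)) ⊔
        Cfsg.oddCore ↥(normalizer (A : Set G))) ≃* ↥(alternatingGroup (Fin 5)))) :
    ∃ D : Data G, D.A = A := by
  classical
  haveI hF : Fact (Nat.Prime 2) := ⟨Nat.prime_two⟩
  set N := normalizer (A : Set G) with hNdef
  obtain ⟨hKn, ⟨e⟩⟩ := hNA
  haveI := hKn
  set A' := A.subgroupOf N with hA'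
  set O := Cfsg.oddCore ↥N with hOdef
  set K := A' ⊔ O with hK
  haveI hA'n : A'.Normal := (normal_subgroupOf_iff_le_normalizer le_normalizer).2 le_rfl
  have hsq : ∀ x ∈ A, x * x = 1 := fun x hx => by rw [← pow_two]; exact hA.2 x hx
  have hcommA : ∀ x ∈ A, ∀ y ∈ A, x * y = y * x := fun x hx y hy =>
    congrArg Subtype.val (hA.1.is_comm.comm ⟨x, hx⟩ ⟨y, hy⟩)
  have hA2 : IsPGroup 2 A := IsPGroup.of_card (n := 4) (by rw [hA16]; norm_num)
  have hA'card : Nat.card A' = 16 := by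
    rw [hA', Nat.card_congr (subgroupOfEquivOfLe (le_normalizer : A ≤ N)).toEquiv, hA16]
  have hOodd : Odd (Nat.card O) := Nat.coprime_two_right.mp CfsgLib.PCore.pPrimeCore_coprime
  have hdisj : Disjoint A' O := by
    rw [disjoint_iff, eq_bot_iff]
    rintro x ⟨hx, hxo⟩
    exact eq_one_of_odd_of_pow (odd_orderOf_of_mem hOodd hxo) (j := 1)
      (Subtype.ext (by simpa [pow_two] using hsq _ hx))
  have hOA : ∀ o ∈ O, ∀ x ∈ A', o * x = x * o := fun o ho x hx =>
    (Subgroup.commute_of_normal_of_disjoint _ _ hA'n inferInstance hdisj x o hx ho).symm.eq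
  have hKmem : ∀ k ∈ K, ∃ x ∈ A', ∃ o ∈ O, x * o = k := fun k hk =>
    Subgroup.mem_sup_of_normal_right.1 hk
  -- orders
  have hKcard : Nat.card K = 16 * Nat.card O := by
    refine Nat.dvd_antisymm ?_ ?_
    · rw [← hA'card]
      exact CfsgLib.PCore.card_sup_dvd_mul A' O
    · refine (Nat.Coprime.pow_left 4 (Nat.coprime_two_left.mpr hOodd)).mul_dvd_of_dvd_of_dvd ?_ ?_
      · rw [show (2 : ℕ) ^ 4 = Nat.card A' by rw [hA'card]; norm_num]
        exact card_dvd_of_le le_sup_left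
      · exact card_dvd_of_le le_sup_right
  have hA5 : Nat.card ↥(alternatingGroup (Fin 5)) = 60 := by
    rw [nat_card_alternatingGroup, Nat.card_eq_fintype_card, Fintype.card_fin]
    rfl
  have hNcard : Nat.card N = 2 ^ 6 * (15 * Nat.card O) := by
    rw [Subgroup.card_eq_card_quotient_mul_card_subgroup K, Nat.card_congr e.toEquiv, hA5, hKcard]
    ring
  obtain ⟨iS⟩ := hS
  have hScard : Nat.card (S : Subgroup G) = 64 := by
    rw [Nat.card_congr iS.toEquiv]
    exact (sylow_alt_eight P).1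
  obtain ⟨T0⟩ := (inferInstance : Nonempty (Sylow 2 N))
  have hT0card : Nat.card (T0 : Subgroup N) = 64 := by
    rw [T0.card_eq_multiplicity, hNcard, Nat.factorization_mul (by norm_num)
      (Nat.mul_ne_zero (by norm_num) Nat.card_pos.ne'), Finsupp.add_apply,
      Nat.Prime.factorization_pow Nat.prime_two, Finsupp.single_eq_same,
      Nat.factorization_eq_zero_of_not_dvd (fun h => Nat.not_even_iff_odd.mpr
        ((show Odd 15 by decide).mul hOodd) (even_iff_two_dvd.2 h)), add_zero]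
    rfl
  have hTG : Nat.card ((T0 : Subgroup N).map N.subtype) = 64 := by
    rw [← Nat.card_congr ((T0 : Subgroup N).equivMapOfInjective N.subtype N.subtype_injective).toEquiv,
      hT0card]
  let T : Sylow 2 G := Sylow.ofCard ((T0 : Subgroup N).map N.subtype) (by
    rw [hTG, ← S.card_eq_multiplicity, hScard])
  have hTdef : (T : Subgroup G) = (T0 : Subgroup N).map N.subtype := rfl
  have hTN : (T : Subgroup G) ≤ N := map_subtype_le _
  have hA'T0 : A' ≤ (T0 : Subgroup N) := IsPGroup.le_sylow_of_normal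
    (hA2.of_injective (subgroupOfEquivOfLe (le_normalizer : A ≤ N)).toMonoidHom
      (subgroupOfEquivOfLe (le_normalizer : A ≤ N)).injective) T0
  have hAT : A ≤ (T : Subgroup G) := fun x hx =>
    ⟨⟨x, le_normalizer hx⟩, hA'T0 (show (⟨x, le_normalizer hx⟩ : N) ∈ A' from hx), rfl⟩
  have hZ : Nat.card (Subgroup.center ↥(T : Subgroup G)) = 2 := by
    rw [Nat.card_congr (Subgroup.centerCongr ((T.equiv S).trans iS)).toEquiv]
    exact (sylow_alt_eight P).2
  -- the permutation action, normalised so that the Sylow subgroup fixes the last point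
  let ψ : N →* Equiv.Perm (Fin 5) :=
    (alternatingGroup (Fin 5)).subtype.comp (e.toMonoidHom.comp (QuotientGroup.mk' K))
  have hψker : ∀ n, ψ n = 1 ↔ n ∈ K := by
    intro n
    rw [← QuotientGroup.eq_one_iff, ← e.map_eq_one_iff, ← OneMemClass.coe_eq_one]
    rfl
  obtain ⟨i0, hi0⟩ : ∃ i : Fin 5, ∀ s : (T0 : Subgroup N).map ψ, (s : Equiv.Perm (Fin 5)) i = i := by
    obtain ⟨i, hi⟩ := (T0.isPGroup'.map ψ).nonempty_fixed_point_of_prime_not_dvd_card (Fin 5)
      (by rw [Nat.card_eq_fintype_card, Fintype.card_fin]; norm_num)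
    exact ⟨i, hi⟩
  let φ : N →* Equiv.Perm (Fin 5) := (MulAut.conj (Equiv.swap i0 4)).toMonoidHom.comp ψ
  have hφsign : ∀ n, Equiv.Perm.sign (φ n) = 1 := by
    intro n
    show Equiv.Perm.sign (Equiv.swap i0 4 * ψ n * (Equiv.swap i0 4)⁻¹) = 1
    rw [map_mul, map_mul, map_inv, mul_right_comm, mul_inv_cancel, one_mul]
    exact Equiv.Perm.mem_alternatingGroup.1 (e (QuotientGroup.mk' K n)).2
  have hφsurj : ∀ π, Equiv.Perm.sign π = 1 → ∃ n, φ n = π := by
    intro π hπ
    obtain ⟨n, hn⟩ := QuotientGroup.mk'_surjective K (e.symm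
      ⟨(Equiv.swap i0 4)⁻¹ * π * Equiv.swap i0 4, Equiv.Perm.mem_alternatingGroup.2 (by
        rw [map_mul, map_mul, map_inv, mul_right_comm, inv_mul_cancel, one_mul, hπ])⟩)
    refine ⟨n, ?_⟩
    show Equiv.swap i0 4 * ((e (QuotientGroup.mk' K n)) : Equiv.Perm (Fin 5)) * (Equiv.swap i0 4)⁻¹ = π
    rw [hn, e.apply_symm_apply]
    group
  have hφker : ∀ n, φ n = 1 ↔ n ∈ K := by
    intro n
    rw [← hψker]
    exact (MulAut.conj (Equiv.swap i0 4)).map_eq_one_iff
  have hφT : ∀ n : N, (n : G) ∈ (T : Subgroup G) → φ n 4 = 4 := by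
    intro n hn
    obtain ⟨m, hm, hmn⟩ := hn
    obtain rfl : m = n := Subtype.ext hmn
    show (Equiv.swap i0 4 * ψ m * (Equiv.swap i0 4)⁻¹) 4 = 4
    simp only [Equiv.swap_inv, Equiv.Perm.mul_apply, Equiv.swap_apply_right]
    rw [hi0 ⟨ψ m, ⟨m, hm, rfl⟩⟩, Equiv.swap_apply_left]
  have hKA : ∀ n ∈ K, ∀ x ∈ A, (n : G) * x = x * n := by
    intro n hn x hx
    obtain ⟨y, hy, o, ho, rfl⟩ := hKmem n hn
    have h1 : Commute (o : G) x := congrArg Subtype.val (hOA o ho ⟨x, le_normalizer hx⟩ hx)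
    have h2 : Commute (y : G) x := hcommA _ hy x hx
    exact (h2.mul_left h1).eq
  -- the action is faithful
  have hfaith : ∀ n : N, (∀ x ∈ A, (n : G) * x = x * n) → n ∈ K := by
    intro n hn
    by_contra hnK
    let C : Subgroup N := (centralizer (A : Set G)).subgroupOf N
    haveI hCn : C.Normal := by
      refine ⟨fun c hc g => ?_⟩
      refine mem_centralizer_iff.2 fun u hu => ?_
      have h : (g : G)⁻¹ * u * g * (c : G) = (c : G) * ((g : G)⁻¹ * u * g) := mem_centralizer_iff.1 hc ((g : G)⁻¹ * u * g)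
        ((mem_normalizer_iff''.1 g.2 u).1 hu)
      calc u * ((g : G) * c * (g : G)⁻¹) = (g : G) * (((g : G)⁻¹ * u * g) * c) * (g : G)⁻¹ := by group
        _ = (g : G) * (c * ((g : G)⁻¹ * u * g)) * (g : G)⁻¹ := by rw [h]
        _ = (g : G) * c * (g : G)⁻¹ * u := by group
    haveI := alternatingGroup.isSimpleGroup (α := Fin 5) (by simp)
    let f : N →* alternatingGroup (Fin 5) := e.toMonoidHom.comp (QuotientGroup.mk' K)
    have hf : Function.Surjective f := e.surjective.comp (QuotientGroup.mk'_surjective K)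
    have hfn : f n ≠ 1 := fun h => hnK ((QuotientGroup.eq_one_iff n).1 (e.map_eq_one_iff.1 h))
    have hnC : n ∈ C := mem_centralizer_iff.2 fun x hx => (hn x hx).symm
    rcases (hCn.map f hf).eq_bot_or_eq_top with h | h
    · exact hfn (Subgroup.mem_bot.1 (h ▸ ⟨n, hnC, rfl⟩))
    · have hall : ∀ m : N, ∀ x ∈ A, (m : G) * x = x * m := by
        intro m x hx
        obtain ⟨c, hc, hcm⟩ := (h ▸ mem_top (f m) : f m ∈ C.map f)
        have hk : c⁻¹ * m ∈ K := (QuotientGroup.eq_one_iff _).1 (e.map_eq_one_iff.1 (by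
          show f (c⁻¹ * m) = 1
          rw [map_mul, map_inv, hcm, inv_mul_cancel]))
        have h1 : Commute (c : G) x := (mem_centralizer_iff.1 hc x hx).symm
        have h2 : Commute (((c⁻¹ * m : N) : G)) x := hKA _ hk x hx
        have := h1.mul_left h2
        simpa using this.eq
      have hle : A.subgroupOf (T : Subgroup G) ≤ Subgroup.center ↥(T : Subgroup G) := fun x hx =>
        Subgroup.mem_center_iff.2 fun s => Subtype.ext (hall ⟨s, hTN s.2⟩ x hx)
      have := Subgroup.card_le_of_le hle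
      rw [hZ, Nat.card_congr (subgroupOfEquivOfLe hAT).toEquiv, hA16] at this
      omega
  have hφone : ∀ n : N, φ n = 1 ↔ ∀ x ∈ A, (n : G) * x = x * n := fun n =>
    ⟨fun h => hKA n ((hφker n).1 h), fun h => (hφker n).2 (hfaith n h)⟩
  -- no point of A is fixed by the whole normaliser
  have hnofix : ∀ u ∈ A, (∀ n : N, (n : G) * u = u * n) → u = 1 := by
    intro u hu hfix
    by_contra hu1
    obtain ⟨π, hπs, hπ5, hπ1⟩ := five_cycle
    obtain ⟨n, rfl⟩ := hφsurj π hπs
    set α := normalizerMonoidHom A n with hα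
    haveI : Fact (Nat.Prime 5) := ⟨by norm_num⟩
    have hα5 : α ^ 5 = 1 := by
      rw [hα, ← map_pow]
      ext x
      show ((n ^ 5 : N) : G) * x * ((n ^ 5 : N) : G)⁻¹ = x
      rw [(hφone (n ^ 5)).1 (by rw [map_pow, hπ5]) x x.2, mul_inv_cancel_right]
    have hp : IsPGroup 5 (zpowers α) := by
      rintro ⟨x, hx⟩
      obtain ⟨i, rfl⟩ := mem_zpowers_iff.1 hx
      refine ⟨1, Subtype.ext ?_⟩
      show (α ^ i) ^ 5 ^ 1 = 1
      rw [pow_one, ← zpow_natCast, ← zpow_mul, mul_comm, zpow_mul, zpow_natCast, hα5, one_zpow]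
    set F := A ⊓ centralizer ({(n : G)} : Set G) with hF'
    have hfixset : Nat.card (MulAction.fixedPoints (zpowers α) A) = Nat.card F := by
      refine Nat.card_congr ⟨fun x => ⟨x.1, x.1.2, ?_⟩, fun x => ⟨⟨x.1, x.2.1⟩, ?_⟩, fun _ => rfl, fun _ => rfl⟩
      · have h1 : α x.1 = x.1 := x.2 ⟨α, mem_zpowers α⟩
        exact mem_centralizer_singleton_iff.2
          (mul_inv_eq_iff_eq_mul.1 (congrArg Subtype.val h1)).symm
      · rintro ⟨b, hb⟩
        have hle : zpowers α ≤ MulAction.stabilizer (MulAut A) (⟨x.1, x.2.1⟩ : A) := by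
          rw [zpowers_le, MulAction.mem_stabilizer_iff]
          exact Subtype.ext (mul_inv_eq_iff_eq_mul.2 (mem_centralizer_singleton_iff.1 x.2.2).symm)
        exact hle hb
    have hmod := hp.card_modEq_card_fixedPoints A
    rw [hfixset, hA16] at hmod
    obtain ⟨k, hk⟩ := (hA2.to_le (inf_le_left : F ≤ A)).exists_card_eq
    have hk4 : k ≤ 4 := by
      have := Subgroup.card_le_of_le (inf_le_left : F ≤ A)
      rw [hk, hA16] at this
      exact (Nat.pow_le_pow_iff_right (le_refl 2)).1 (this.trans_eq (by norm_num))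
    have hk0 : k ≠ 0 := by
      rintro rfl
      rw [pow_zero] at hk
      have hub : u ∈ F := ⟨hu, mem_centralizer_singleton_iff.2 (hfix n).symm⟩
      change u ∈ F at hub
      rw [show F = ⊥ from Subgroup.card_eq_one.1 hk] at hub
      exact hu1 hub
    rw [hk] at hmod
    have hk4' : k = 4 := by
      interval_cases k <;> first | rfl | exact absurd rfl hk0 | exact absurd hmod (by decide)
    have hFA : F = A := eq_of_le_of_card_ge inf_le_left (by rw [hA16, hk, hk4']; norm_num)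
    exact hπ1 ((hφone n).2 fun x hx =>
      (mem_centralizer_singleton_iff.1 (hFA.ge hx).2).symm)
  -- the image of the Sylow subgroup
  have hφTtame : ∀ n : N, (n : G) ∈ (T : Subgroup G) → Tame (φ n) ∧ φ n ^ 2 = 1 := by
    intro n hn
    have ht : Tame (φ n) := ⟨hφsign n, hφT n hn⟩
    refine ⟨ht, ?_⟩
    rcases tame_orders _ ht with h | h
    · exact h
    · obtain ⟨j, hj⟩ := T.isPGroup' ⟨n, hn⟩
      have h3 : φ n = 1 := eq_one_of_odd_of_pow
        ((show Odd 3 by decide).of_dvd_nat (orderOf_dvd_of_pow_eq_one h)) (j := j)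
        (by rw [← map_pow, show n ^ 2 ^ j = 1 from Subtype.ext (by
          simpa using congrArg Subtype.val hj), map_one])
      rw [h3, one_pow]
  have hcentO : ∀ n ∈ K, ∃ x ∈ A, ∃ o ∈ O, (n : G) = x * (o : G) ∧ Commute x (o : G) := by
    intro n hn
    obtain ⟨x, hx, o, ho, rfl⟩ := hKmem n hn
    exact ⟨x, hx, o, ho, rfl, (congrArg Subtype.val (hOA o ho x hx)).symm⟩
  have hKT : ∀ n ∈ K, ∀ j : ℕ, (n : G) ^ 2 ^ j = 1 → (n : G) ∈ A := by
    intro n hn j hj
    obtain ⟨x, hx, o, ho, e', hc⟩ := hcentO n hn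
    rw [e']
    have h1 : (o : G) ^ 2 ^ (j + 1) = 1 := by
      rw [e', hc.mul_pow] at hj
      rw [pow_succ, pow_mul, eq_inv_of_mul_eq_one_right hj, pow_two, ← mul_inv_rev,
        hsq _ (pow_mem hx _), inv_one]
    have h2 : o = 1 := Subtype.ext (eq_one_of_odd_of_pow
      (by rw [Subgroup.orderOf_coe]; exact odd_orderOf_of_mem hOodd ho) h1)
    simpa [h2] using hx
  have himage : ∀ π, Tame π → π ^ 2 = 1 → ∃ n : N, (n : G) ∈ (T : Subgroup G) ∧ φ n = π := by
    intro π hπ hπ2
    set I := (T0 : Subgroup N).map φ with hI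
    have hsub : (I : Set (Equiv.Perm (Fin 5))).toFinset ⊆
        Finset.univ.filter fun π : Equiv.Perm (Fin 5) => Tame π ∧ π ^ 2 = 1 := by
      intro x hx
      rw [Set.mem_toFinset] at hx
      obtain ⟨n, hn, rfl⟩ := hx
      exact Finset.mem_filter.2 ⟨Finset.mem_univ _, hφTtame n ⟨n, hn, rfl⟩⟩
    have hcard : 4 ≤ Nat.card I := by
      have h1 := Subgroup.relIndex_ker (T0 : Subgroup N) φ
      have h2 : φ.ker ⊓ (T0 : Subgroup N) = A' := by
        refine le_antisymm ?_ (le_inf (fun x hx => (hφker x).2 (mem_sup_left hx)) hA'T0)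
        rintro x ⟨hx, hxT⟩
        obtain ⟨j, hj⟩ := T0.isPGroup' ⟨x, hxT⟩
        exact hKT x ((hφker x).1 hx) j (by
          have h4 : x ^ 2 ^ j = 1 := congrArg Subtype.val hj
          simpa using congrArg Subtype.val h4)
      rw [← inf_relIndex_right, h2] at h1
      have h3 := relIndex_mul_relIndex ⊥ A' (T0 : Subgroup N) bot_le hA'T0
      rw [relIndex_bot_left, relIndex_bot_left, hA'card, hT0card, h1] at h3
      rw [hI]
      omega
    have heq := Finset.eq_of_subset_of_card_le hsub (by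
      rw [tame_sq_card, Set.toFinset_card, ← Nat.card_eq_fintype_card]
      exact hcard)
    have : π ∈ (I : Set (Equiv.Perm (Fin 5))).toFinset := by
      rw [heq]
      exact Finset.mem_filter.2 ⟨Finset.mem_univ _, hπ, hπ2⟩
    rw [Set.mem_toFinset] at this
    obtain ⟨n, hn, rfl⟩ := this
    exact ⟨n, ⟨n, hn, rfl⟩, rfl⟩
  -- the fixed point of the Sylow subgroup
  obtain ⟨v, hvA, hv1, hvT⟩ : ∃ v ∈ A, v ≠ 1 ∧ ∀ s ∈ (T : Subgroup G), s * v = v * s := by
    haveI : (A.subgroupOf (T : Subgroup G)).Normal :=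
      (normal_subgroupOf_iff_le_normalizer hAT).2 hTN
    haveI : Group.IsNilpotent (T : Subgroup G) := T.isPGroup'.isNilpotent
    have hne : A.subgroupOf (T : Subgroup G) ≠ ⊥ := fun h => by
      have := congrArg (fun H : Subgroup (T : Subgroup G) => Nat.card H) h
      simp only [Subgroup.card_bot] at this
      rw [Nat.card_congr (subgroupOfEquivOfLe hAT).toEquiv, hA16] at this
      omega
    obtain ⟨⟨z, hz⟩, hz1⟩ := (Subgroup.ne_bot_iff_exists_ne_one).1
      (CfsgLib.OddOrder.PuigSeries.inf_center_ne_bot (A.subgroupOf (T : Subgroup G)) hne)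
    exact ⟨z, hz.2, fun h => hz1 (Subtype.ext (Subtype.ext h)),
      fun s hs => congrArg Subtype.val (Subgroup.mem_center_iff.1 hz.1 ⟨s, hs⟩)⟩
  have hvuniq : ∀ u ∈ A, u ≠ 1 → (∀ s ∈ (T : Subgroup G), s * u = u * s) → u = v := by
    intro u hu hu1 huT
    by_contra huv
    have h3 : ({⟨1, one_mem _⟩, ⟨v, hAT hvA⟩, ⟨u, hAT hu⟩} : Set ↥(T : Subgroup G)).ncard = 3 := by
      rw [Set.ncard_insert_of_notMem, Set.ncard_pair]
      · exact fun h => huv (congrArg Subtype.val h).symm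
      · simp only [Set.mem_insert_iff, Set.mem_singleton_iff, Subtype.mk.injEq]
        push Not
        exact ⟨hv1.symm, hu1.symm⟩
    have hle : ({⟨1, one_mem _⟩, ⟨v, hAT hvA⟩, ⟨u, hAT hu⟩} : Set ↥(T : Subgroup G)) ⊆
        (Subgroup.center ↥(T : Subgroup G) : Set ↥(T : Subgroup G)) := by
      rintro x (rfl | rfl | rfl)
      · exact one_mem (Subgroup.center _)
      · exact Subgroup.mem_center_iff.2 fun s => Subtype.ext (hvT s s.2)
      · exact Subgroup.mem_center_iff.2 fun s => Subtype.ext (huT s s.2)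
    have := Set.ncard_le_ncard hle
    rw [h3, ← Nat.card_coe_set_eq] at this
    exact absurd (this.trans_eq hZ) (by norm_num)
  have hstab : ∀ n : N, φ n 4 = 4 → (n : G) * v * (n : G)⁻¹ = v := by
    intro n hn
    refine hvuniq _ ((mem_normalizer_iff.1 n.2 v).1 hvA) (fun h => hv1 (conj_eq_one_iff.1 h)) ?_
    intro s hs
    obtain ⟨h1, h2⟩ := tame_conj (φ n) _ ⟨hφsign n, hn⟩ (hφTtame ⟨s, hTN hs⟩ hs).1
      (hφTtame ⟨s, hTN hs⟩ hs).2
    obtain ⟨s', hs', hs'φ⟩ := himage _ h1 h2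
    have hk : s'⁻¹ * (n⁻¹ * ⟨s, hTN hs⟩ * n) ∈ K := (hφker _).1 (by
      rw [map_mul, map_mul, map_mul, map_inv, map_inv, hs'φ]
      group)
    have h3 : Commute (((s'⁻¹ * (n⁻¹ * ⟨s, hTN hs⟩ * n) : N) : G)) v := hKA _ hk v hvA
    have h4 : Commute (s' : G) v := hvT _ hs'
    have h5 : Commute ((n : G)⁻¹ * s * n) v := by
      have := h4.mul_left h3
      simpa [mul_assoc] using this
    calc s * ((n : G) * v * (n : G)⁻¹) = (n : G) * (((n : G)⁻¹ * s * n) * v) * (n : G)⁻¹ := by group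
      _ = (n : G) * (v * ((n : G)⁻¹ * s * n)) * (n : G)⁻¹ := by rw [h5.eq]
      _ = _ := by group
  choose nn hnn using fun i : Fin 5 => (even_to_point i).imp fun π h => And.intro h (hφsurj π h.1)
  choose mm hmm using fun i : Fin 5 => (hnn i).2
  let w : Fin 5 → G := fun i => (mm i : G) * v * (mm i : G)⁻¹
  have hw4 : ∀ i, φ (mm i) 4 = i := fun i => by rw [hmm i]; exact (hnn i).1.2
  have hwA : ∀ i, w i ∈ A := fun i => (mem_normalizer_iff.1 (mm i).2 v).1 hvA
  have hwconj : ∀ (n : N) (i : Fin 5), (n : G) * w i * (n : G)⁻¹ = w (φ n i) := by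
    intro n i
    have h := hstab ((mm (φ n i))⁻¹ * (n * mm i)) (by
      rw [map_mul, map_mul, map_inv, Equiv.Perm.mul_apply, Equiv.Perm.mul_apply, hw4,
        Equiv.Perm.inv_eq_iff_eq, hw4])
    simp only [Subgroup.coe_mul, InvMemClass.coe_inv] at h
    show (n : G) * ((mm i : G) * v * (mm i : G)⁻¹) * (n : G)⁻¹ = _
    calc (n : G) * ((mm i : G) * v * (mm i : G)⁻¹) * (n : G)⁻¹ = (mm (φ n i) : G) *
        (((mm (φ n i) : G))⁻¹ * ((n : G) * mm i) * v * (((mm (φ n i) : G))⁻¹ * ((n : G) * mm i))⁻¹) *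
          ((mm (φ n i) : G))⁻¹ := by group
      _ = _ := by rw [h]
  have hw1 : ∀ i, w i ≠ 1 := fun i h => hv1 (conj_eq_one_iff.1 h)
  have hwinj : Function.Injective w := by
    intro i j hij
    by_contra hne
    have hall : ∀ k l : Fin 5, w k = w l := by
      intro k l
      rcases eq_or_ne k l with rfl | hkl
      · rfl
      obtain ⟨π, hπ, h1, h2⟩ := two_transitive i j k l hne hkl
      obtain ⟨n, rfl⟩ := hφsurj π hπ
      rw [← h1, ← h2, ← hwconj, ← hwconj, hij]
    refine hw1 4 (hnofix _ (hwA 4) fun n => ?_)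
    rw [← mul_inv_eq_iff_eq_mul, hwconj]
    exact hall _ _
  -- the values
  letI : CommGroup A :=
    { (inferInstance : Group A) with mul_comm := fun a b => Subtype.ext (hcommA _ a.2 _ b.2) }
  let w' : Fin 5 → A := fun i => ⟨w i, hwA i⟩
  let val : Finset (Fin 5) → G := fun s => ((∏ i ∈ s, w' i : A) : G)
  have hvmem : ∀ s, val s ∈ A := fun s => (∏ i ∈ s, w' i : A).2
  have hvmul : ∀ s u, val s * val u = val (s ∆ u) := by
    intro s u
    show ((∏ i ∈ s, w' i : A) : G) * ((∏ i ∈ u, w' i : A) : G) = _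
    have hd : Disjoint (s ∆ u) (s ∩ u) := disjoint_symmDiff_inf s u
    have he : s ∪ u = (s ∆ u) ∪ (s ∩ u) := (symmDiff_sup_inf s u).symm
    rw [← Subgroup.coe_mul, ← Finset.prod_union_inter, he, Finset.prod_union hd, mul_assoc]
    have : (∏ i ∈ s ∩ u, w' i) * ∏ i ∈ s ∩ u, w' i = 1 := Subtype.ext (hsq _ (Subtype.prop _))
    rw [this, mul_one]
  have hvconj : ∀ (n : N) s, (n : G) * val s * (n : G)⁻¹ = val (s.image (φ n)) := by
    intro n s
    show ((normalizerMonoidHom A n (∏ i ∈ s, w' i) : A) : G) = _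
    rw [map_prod]
    show _ = ((∏ i ∈ s.image (φ n), w' i : A) : G)
    rw [Finset.prod_image fun a _ b _ h => (φ n).injective h]
    congr 1
    exact Finset.prod_congr rfl fun i _ => Subtype.ext (hwconj n i)
  have hval1 : ∀ i, val {i} = w i := fun i => by
    show ((∏ j ∈ ({i} : Finset (Fin 5)), w' j : A) : G) = w i
    rw [Finset.prod_singleton]
  have hvempty : val ∅ = 1 := by
    show ((∏ i ∈ (∅ : Finset (Fin 5)), w' i : A) : G) = 1
    rw [Finset.prod_empty]
    rfl
  have hvuniv : val Finset.univ = 1 := hnofix _ (hvmem _) fun n => by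
    rw [← mul_inv_eq_iff_eq_mul, hvconj, Finset.image_univ_of_surjective (φ n).surjective]
  have hvcompl : ∀ s, val sᶜ = val s := fun s => by
    rw [← symmDiff_compl_univ, ← hvmul, hvuniv, mul_one]
  have hpair : ∀ i j : Fin 5, i ≠ j → val {i, j} ≠ 1 := by
    intro i j hij h
    have h1 : val {i} * val {j} = val {i, j} := by
      rw [hvmul]
      congr 1
      ext x
      simp only [Finset.mem_symmDiff, Finset.mem_singleton, Finset.mem_insert]
      constructor
      · rintro (⟨h, -⟩ | ⟨h, -⟩) <;> simp [h]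
      · rintro (rfl | rfl)
        · exact Or.inl ⟨rfl, hij⟩
        · exact Or.inr ⟨rfl, hij.symm⟩
    rw [h, hval1, hval1] at h1
    exact hij (hwinj ((eq_inv_of_mul_eq_one_left h1).trans
      (inv_eq_of_mul_eq_one_right (hsq _ (hwA j)))))
  have hsmall : ∀ s : Finset (Fin 5), (s.card = 1 ∨ s.card = 2) → val s ≠ 1 := by
    rintro s (h | h)
    · obtain ⟨i, rfl⟩ := Finset.card_eq_one.1 h
      rw [hval1]
      exact hw1 i
    · obtain ⟨i, j, hij, rfl⟩ := Finset.card_eq_two.1 h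
      exact hpair i j hij
  have hvone : ∀ s, val s = 1 ↔ s = ∅ ∨ s = Finset.univ := by
    intro s
    refine ⟨fun h => ?_, fun h => ?_⟩
    · by_contra hs
      push Not at hs
      rcases small_of_large s (Finset.nonempty_iff_ne_empty.1 hs.1) hs.2 with h1 | h1 | h1 | h1
      · exact hsmall s (Or.inl h1) h
      · exact hsmall s (Or.inr h1) h
      · exact hsmall _ (Or.inl h1) (by rw [hvcompl, h])
      · exact hsmall _ (Or.inr h1) (by rw [hvcompl, h])
    · rcases h with rfl | rfl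
      exacts [hvempty, hvuniv]
  have hvsurj : ∀ x ∈ A, ∃ s, val s = x := by
    let F : Finset (Fin 4) → A := fun s => ⟨val (s.map Fin.castSuccEmb), hvmem _⟩
    have hinj : Function.Injective F := fun s u h => low_inj s u ((hvone _).1 (by
      rw [← hvmul, show val (s.map Fin.castSuccEmb) = val (u.map Fin.castSuccEmb) from congrArg Subtype.val h]
      exact hsq _ (hvmem _)))
    have hbij := (Nat.bijective_iff_injective_and_card F).2 ⟨hinj, by
      rw [hA16, Nat.card_eq_fintype_card, Fintype.card_finset, Fintype.card_fin]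
      norm_num⟩
    intro x hx
    obtain ⟨s, hs⟩ := hbij.2 ⟨x, hx⟩
    exact ⟨_, congrArg Subtype.val hs⟩
  -- centralisers
  have hcent2 : ∀ y : G, (∀ x ∈ A, y * x = x * y) → (∃ j : ℕ, y ^ 2 ^ j = 1) → y ∈ A := by
    intro y hy hj
    obtain ⟨j, hj⟩ := hj
    have hyN : y ∈ N := mem_normalizer_of_cj (cj_eq_of_commute fun u hu => by
      rw [hy u hu, mul_inv_cancel_right])
    exact hKT ⟨y, hyN⟩ (hfaith _ hy) j hj
  have hcentodd : OddClosed (centralizer (A : Set G)) := by
    refine ⟨O.map N.subtype, ?_, ?_, ?_⟩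
    · rintro _ ⟨o, ho, rfl⟩
      exact mem_centralizer_iff.2 fun x hx => (hKA o (mem_sup_right ho) x hx).symm
    · rw [← Nat.card_congr (O.equivMapOfInjective N.subtype N.subtype_injective).toEquiv]
      exact hOodd
    · intro y hy hyo
      have hy' : ∀ x ∈ A, y * x = x * y := fun x hx => (mem_centralizer_iff.1 hy x hx).symm
      have hyN : y ∈ N := mem_normalizer_of_cj (cj_eq_of_commute fun u hu => by
        rw [hy' u hu, mul_inv_cancel_right])
      obtain ⟨x, hx, o, ho, e', hc⟩ := hcentO ⟨y, hyN⟩ (hfaith _ hy')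
      refine mem_of_pow_two_pow_mem hyo 1 ⟨o ^ 2, pow_mem ho 2, ?_⟩
      rw [show y = x * (o : G) from e', pow_one, hc.mul_pow, hA.2 x hx, one_mul]
      simp
  -- classes of involutions
  have hclassA : ∀ x ∈ A, x ≠ 1 → IsConj (val {4}) x ∨ IsConj (val {0, 1}) x := by
    intro x hx hx1
    obtain ⟨s, rfl⟩ := hvsurj x hx
    obtain ⟨π, hπ, h⟩ := all_classes s (fun h => hx1 (h ▸ hvempty)) (fun h => hx1 (h ▸ hvuniv))
    obtain ⟨n, hn⟩ := hφsurj π hπ
    rcases h with h | h
    · refine Or.inl (isConj_iff.2 ⟨n, ?_⟩)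
      rw [hvconj, hn]
      rcases h with h | h <;> rw [h]
      exact hvcompl s
    · refine Or.inr (isConj_iff.2 ⟨n, ?_⟩)
      rw [hvconj, hn]
      rcases h with h | h <;> rw [h]
      exact hvcompl s
  have hout : ∀ y ∈ (T : Subgroup G), y ∉ A → orderOf y = 2 → ∀ y' ∈ (T : Subgroup G), y' ∉ A →
      orderOf y' = 2 → IsConj y y' := by
    intro y hy hyA hy2 y' hy' hy'A hy'2
    have hne : ∀ u, u ∈ (T : Subgroup G) → u ∉ A → ∀ h : u ∈ N, φ ⟨u, h⟩ ≠ 1 := by
      intro u hu huA h h1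
      obtain ⟨j, hj⟩ := T.isPGroup' ⟨u, hu⟩
      exact huA (hKT ⟨u, h⟩ ((hφker _).1 h1) j (congrArg Subtype.val hj))
    set m : N := ⟨y, hTN hy⟩
    set m' : N := ⟨y', hTN hy'⟩
    obtain ⟨σ, hσ, hσπ⟩ := tame_sq_conj (φ m) (φ m') (hφTtame m hy).1 (hφTtame m hy).2
      (hne y hy hyA _) (hφTtame m' hy').1 (hφTtame m' hy').2 (hne y' hy' hy'A _)
    obtain ⟨n, rfl⟩ := hφsurj σ hσ.1
    set z : N := n * m * n⁻¹ with hz
    have hzy : IsConj y (z : G) := isConj_iff.2 ⟨n, by rw [hz]; rfl⟩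
    have hk : m' * z ∈ K := (hφker _).1 (by
      rw [map_mul, hz, map_mul, map_mul, map_inv, hσπ, ← pow_two, (hφTtame m' hy').2])
    obtain ⟨x, hx, o, ho, e', hc⟩ := hcentO _ hk
    have hz2 : (z : G) * z = 1 := by
      rw [hz]
      show (n : G) * y * (n : G)⁻¹ * ((n : G) * y * (n : G)⁻¹) = 1
      rw [show (n : G) * y * (n : G)⁻¹ * ((n : G) * y * (n : G)⁻¹) = (n : G) * (y * y) * (n : G)⁻¹ by group,
        Involutions.mul_self_eq_one hy2]
      group
    have hy'inv : y'⁻¹ = y' := Involutions.inv_eq_self_of_involution hy'2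
    have hy'sq : y' * y' = 1 := Involutions.mul_self_eq_one hy'2
    have hzeq : (z : G) = y' * (x * o) := by
      rw [← e']
      show (z : G) = y' * (y' * (z : G))
      rw [← mul_assoc, hy'sq, one_mul]
    -- the two parts
    have hxA' : y' * x * y'⁻¹ ∈ A := (mem_normalizer_iff.1 (hTN hy') x).1 hx
    have hoO : (⟨y', hTN hy'⟩ : N) * o * (⟨y', hTN hy'⟩ : N)⁻¹ ∈ O :=
      (inferInstance : O.Normal).conj_mem o ho _
    have hinv : y' * x * y'⁻¹ * (y' * (o : G) * y'⁻¹) = (x * o)⁻¹ := by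
      rw [show y' * x * y'⁻¹ * (y' * (o : G) * y'⁻¹) = y' * (x * o) * y'⁻¹ by group, ← hzeq, hy'inv]
      refine eq_inv_of_mul_eq_one_left ?_
      rw [show (z : G) * y' * (x * o) = (z : G) * (y' * (x * o)) by group, ← hzeq, hz2]
    have hxeq : y' * x * y'⁻¹ = x := by
      have hxi : x⁻¹ = x := inv_eq_of_mul_eq_one_right (hsq x hx)
      have h1 : (⟨x, le_normalizer hx⟩ * ⟨y' * x * y'⁻¹, le_normalizer hxA'⟩ : N) =
          o⁻¹ * ((⟨y', hTN hy'⟩ : N) * o * (⟨y', hTN hy'⟩ : N)⁻¹)⁻¹ := by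
        apply Subtype.ext
        show x * (y' * x * y'⁻¹) = (o : G)⁻¹ * (y' * (o : G) * y'⁻¹)⁻¹
        have h2 : y' * x * y'⁻¹ = (x * o)⁻¹ * (y' * (o : G) * y'⁻¹)⁻¹ := eq_mul_inv_of_mul_eq hinv
        rw [h2, hc.eq, mul_inv_rev, ← mul_assoc, ← mul_assoc, hxi, hsq x hx, one_mul]
      have h2 : (⟨x, le_normalizer hx⟩ * ⟨y' * x * y'⁻¹, le_normalizer hxA'⟩ : N) ∈ A' ⊓ O :=
        ⟨A.mul_mem hx hxA', h1 ▸ O.mul_mem (O.inv_mem ho) (O.inv_mem hoO)⟩
      rw [hdisj.eq_bot, mem_bot] at h2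
      have h3 : x * (y' * x * y'⁻¹) = 1 := congrArg Subtype.val h2
      rw [eq_inv_of_mul_eq_one_right h3, hxi]
    have hoinv : y' * (o : G) * y'⁻¹ = (o : G)⁻¹ := by
      rw [hxeq] at hinv
      rw [hc.eq, mul_inv_rev] at hinv
      have hxi : x⁻¹ = x := inv_eq_of_mul_eq_one_right (hsq x hx)
      rw [hxi] at hinv
      exact mul_left_cancel hinv
    -- halve the odd part
    obtain ⟨i, hi⟩ := (odd_orderOf_of_mem hOodd ho)
    set d := (o : G) ^ (i + 1) with hd
    have hd2 : d * d = o := by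
      rw [hd, ← pow_add, show i + 1 + (i + 1) = 2 * i + 1 + 1 by ring, ← hi, pow_succ]
      rw [← Subgroup.orderOf_coe, pow_orderOf_eq_one, one_mul]
    have hdinv : y' * d * y'⁻¹ = d⁻¹ := by rw [hd, ← conj_pow, hoinv, inv_pow]
    have hdx : Commute d x := (hc.symm.pow_left _)
    have hz' : IsConj (y' * x) (z : G) := by
      refine isConj_iff.2 ⟨d⁻¹, ?_⟩
      have h1 : d⁻¹ * y' * d = y' * (o : G) := by
        calc d⁻¹ * y' * d = y' * d * y'⁻¹ * y' * d := by rw [hdinv]
          _ = y' * (d * d) := by group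
          _ = _ := by rw [hd2]
      calc d⁻¹ * (y' * x) * d⁻¹⁻¹ = d⁻¹ * y' * (x * d) := by group
        _ = d⁻¹ * y' * d * x := by rw [← hdx.eq]; group
        _ = y' * (x * o) := by rw [h1, hc.eq]; group
        _ = _ := hzeq.symm
    -- the part in A is a commutator
    obtain ⟨s, rfl⟩ := hvsurj x hx
    have hfix : s.image (φ m') = s ∨ s.image (φ m') = sᶜ := by
      have h1 : val (s.image (φ m')) = val s := (hvconj m' s).symm.trans hxeq
      have h2 : val (s.image (φ m') ∆ s) = 1 := by rw [← hvmul, h1, hsq _ (hvmem s)]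
      rcases (symmDiff_cases _ _).1 ((hvone _).1 h2) with h | h
      · exact Or.inl h.symm
      · exact Or.inr (compl_inj_iff.1 (by rw [compl_compl]; exact h.symm))
    obtain ⟨r, hr⟩ := fixed_is_commutator _ (hφTtame m' hy').1 (hφTtame m' hy').2
      (hne y' hy' hy'A _) s hfix
    have hr' : val r * val (r.image (φ m')) = val s := by
      rw [hvmul]
      rcases hr with h | h <;> rw [h]
      exact hvcompl s
    have hlast : IsConj y' (y' * val s) := by
      refine isConj_iff.2 ⟨val r, ?_⟩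
      rw [← hr', ← hvconj m' r, inv_eq_of_mul_eq_one_right (hsq _ (hvmem r))]
      calc val r * y' * val r = y' * (y' * val r * y'⁻¹ * val r) := by
            rw [hy'inv]; simp only [← mul_assoc, hy'sq, one_mul]
        _ = y' * (val r * (y' * val r * y'⁻¹)) := by
            rw [hcommA _ ((mem_normalizer_iff.1 (hTN hy') _).1 (hvmem r)) _ (hvmem r)]
    exact hzy.trans (hlast.trans hz').symm
  -- three classes
  obtain ⟨t, htT, htA, ht2⟩ : ∃ t ∈ (T : Subgroup G), t ∉ A ∧ orderOf t = 2 := by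
    by_contra hcon
    push Not at hcon
    have key : ∀ c : {c : ConjClasses G // ∃ x ∈ c.carrier, orderOf x = 2},
        ∃ b : Bool, c.1 = ConjClasses.mk (if b then val {4} else val {0, 1}) := by
      rintro ⟨c, x, hxc, hx2⟩
      obtain ⟨g, hg⟩ := Involutions.exists_conj_le_sylow (Involutions.isPGroup_two_zpowers hx2) T
      have hgA : g * x * g⁻¹ ∈ A := by
        by_contra h
        exact hcon _ (hg x (mem_zpowers x)) h (by rw [Involutions.orderOf_conj_eq, hx2])
      have hcx : c = ConjClasses.mk (g * x * g⁻¹) := by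
        rw [← ConjClasses.mem_carrier_iff_mk_eq.1 hxc, ConjClasses.mk_eq_mk_iff_isConj]
        exact isConj_iff.2 ⟨g, rfl⟩
      rcases hclassA _ hgA (fun h => Involutions.ne_one_of_involution hx2 (conj_eq_one_iff.1 h)) with h | h
      · exact ⟨true, hcx.trans (ConjClasses.mk_eq_mk_iff_isConj.2 h.symm)⟩
      · exact ⟨false, hcx.trans (ConjClasses.mk_eq_mk_iff_isConj.2 h.symm)⟩
    choose b hb using key
    have := Nat.card_le_card_of_injective b fun c d h => Subtype.ext (by rw [hb c, hb d, h])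
    rw [h3, Nat.card_eq_fintype_card, Fintype.card_bool] at this
    omega
  have hclass3 : ¬ IsConj (val {4}) t ∧ ¬ IsConj (val {0, 1}) t ∧ ¬ IsConj (val {4}) (val {0, 1}) := by
    have key : ∀ c : {c : ConjClasses G // ∃ x ∈ c.carrier, orderOf x = 2},
        ∃ i : Fin 3, c.1 = ConjClasses.mk (![val {4}, val {0, 1}, t] i) := by
      rintro ⟨c, x, hxc, hx2⟩
      obtain ⟨g, hg⟩ := Involutions.exists_conj_le_sylow (Involutions.isPGroup_two_zpowers hx2) T
      have hcx : c = ConjClasses.mk (g * x * g⁻¹) := by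
        rw [← ConjClasses.mem_carrier_iff_mk_eq.1 hxc, ConjClasses.mk_eq_mk_iff_isConj]
        exact isConj_iff.2 ⟨g, rfl⟩
      have hg2 : orderOf (g * x * g⁻¹) = 2 := by rw [Involutions.orderOf_conj_eq, hx2]
      by_cases hgA : g * x * g⁻¹ ∈ A
      · rcases hclassA _ hgA (Involutions.ne_one_of_involution hg2) with h | h
        · exact ⟨0, hcx.trans (ConjClasses.mk_eq_mk_iff_isConj.2 h.symm)⟩
        · exact ⟨1, hcx.trans (ConjClasses.mk_eq_mk_iff_isConj.2 h.symm)⟩
      · exact ⟨2, hcx.trans (ConjClasses.mk_eq_mk_iff_isConj.2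
          (hout _ (hg x (mem_zpowers x)) hgA hg2 t htT htA ht2))⟩
    choose b hb using key
    have hinj : Function.Injective b := fun c d h => Subtype.ext (by rw [hb c, hb d, h])
    have hbij := (Nat.bijective_iff_injective_and_card b).2 ⟨hinj, by
      rw [h3, Nat.card_eq_fintype_card, Fintype.card_fin]⟩
    have hne : ∀ i j : Fin 3, i ≠ j → ¬ IsConj (![val {4}, val {0, 1}, t] i) (![val {4}, val {0, 1}, t] j) := by
      intro i j hij hc
      obtain ⟨c, rfl⟩ := hbij.2 i
      obtain ⟨d, rfl⟩ := hbij.2 j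
      exact hij (congrArg b (Subtype.ext (by
        rw [hb c, hb d]
        exact ConjClasses.mk_eq_mk_iff_isConj.2 hc)))
    exact ⟨hne 0 2 (by decide), hne 1 2 (by decide), hne 0 1 (by decide)⟩
  -- strong closure
  have hstrong : ∀ x ∈ A, ∀ g : G, g * x * g⁻¹ ∈ (T : Subgroup G) → g * x * g⁻¹ ∈ A := by
    intro x hx g hg
    rcases eq_or_ne x 1 with rfl | hx1
    · simp
    by_contra hgA
    have hy2 : orderOf (g * x * g⁻¹) = 2 := by
      rw [Involutions.orderOf_conj_eq]
      exact orderOf_eq_prime (hA.2 x hx) hx1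
    have h1 : IsConj x t := (isConj_iff.2 ⟨g, rfl⟩).trans (hout _ hg hgA hy2 t htT htA ht2)
    rcases hclassA x hx hx1 with h | h
    · exact hclass3.1 (h.trans h1)
    · exact hclass3.2.1 (h.trans h1)
  have hclosed : Closed A := by
    intro R hR hAR x hx g hg
    obtain ⟨k, hk⟩ := Involutions.exists_conj_le_sylow hR T
    have hkA : k ∈ N := by
      refine mem_normalizer_of_cj (eq_of_le_of_card_ge ?_ (card_cj k A).ge)
      rintro _ ⟨u, hu, rfl⟩
      exact hstrong u hu k (hk u (hAR hu))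
    have h1 : k * (g * x * g⁻¹) * k⁻¹ ∈ A := by
      have h2 := hk _ hg
      rw [show k * (g * x * g⁻¹) * k⁻¹ = k * g * x * (k * g)⁻¹ by group] at h2 ⊢
      exact hstrong x hx _ h2
    exact (mem_normalizer_iff.1 hkA _).2 h1
  exact ⟨{ S := T, A := A, φ := φ, val := val, t := t, hSN := hTN, hAS := hAT, sign_φ := hφsign,
           φ_surj := hφsurj, φ_one := hφone, φ_S := hφT, val_mem := hvmem, val_mul := hvmul,
           val_eq_one := hvone, val_surj := hvsurj, val_conj := hvconj, cent_two := hcent2,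
           cent_odd := hcentodd, closed := hclosed, ht := htT, htA := htA,
           ht2 := Involutions.mul_self_eq_one ht2, not_conj := hclass3.2.2 }, rfl⟩

end CfsgLib.AltEightThree
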