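import Cfsg.Agent.Lib.AltEightThree.Completion

/-!
The centraliser of `a` is the product of its core and its part in the normaliser of `A`.
-/

set_option autoImplicit false

namespace CfsgLib.AltEightThree

open Subgroup CfsgLib.TwoGroups.FT
open scoped symmDiff

theorem four_type_stab : ∀ π : Equiv.Perm (Fin 5), Tame π → π ^ 2 = 1 → ∀ s : Finset (Fin 5),
    ¬ Even (s.erase 4).card → (s.image π = s ∨ s.image π = sᶜ) → π = 1 := by decide +kernel

theorem four_type_classes : ∀ s : Finset (Fin 5), ¬ Even (s.erase 4).card →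
    ∃ π σ : Equiv.Perm (Fin 5), Equiv.Perm.sign π = 1 ∧ Equiv.Perm.sign σ = 1 ∧
      ((({4} : Finset (Fin 5)).image π = s ∨ ({4} : Finset (Fin 5)).image π = sᶜ) ∧
        (({0, 1} : Finset (Fin 5)).image σ = s ∆ {4} ∨ ({0, 1} : Finset (Fin 5)).image σ = (s ∆ {4})ᶜ) ∨
      ((({4} : Finset (Fin 5)).image π = s ∆ {4} ∨ ({4} : Finset (Fin 5)).image π = (s ∆ {4})ᶜ) ∧
        (({0, 1} : Finset (Fin 5)).image σ = s ∨ ({0, 1} : Finset (Fin 5)).image σ = sᶜ))) := by
  decide +kernel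

namespace Data

variable {G : Type*} [Group G] (D : Data G)

/-- The overgroup of all the centralisers. -/
def M : Subgroup G := D.Qh ⊔ normalizer (D.A : Set G) ⊓ D.H

theorem M_le_H : D.M ≤ D.H := sup_le D.Qh_le_H inf_le_right

theorem S_le_M : (D.S : Subgroup G) ≤ D.M := fun _ hx => mem_sup_right ⟨D.hSN hx, D.S_le_H hx⟩

theorem conj_Qh {n : ↥(normalizer (D.A : Set G))} (hn : (n : G) ∈ D.H) {q : G} (hq : q ∈ D.Qh) :
    (n : G) * q * (n : G)⁻¹ ∈ D.Qh := by
  have h : D.Qh.map (MulAut.conj (n : G)).toMonoidHom ≤ D.Qh := by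
    rw [Qh, MonoidHom.map_closure]
    refine (closure_le _).2 ?_
    rintro _ ⟨y, ⟨hy, hyo, p, hp, hyp⟩, rfl⟩
    refine subset_closure ⟨D.H.mul_mem (D.H.mul_mem hn hy) (D.H.inv_mem hn), ?_,
      _, D.isPair_conj hp hn, ?_⟩
    · show Odd (orderOf (MulAut.conj (n : G) y))
      rwa [MulEquiv.orderOf_eq]
    · show (n : G) * y * (n : G)⁻¹ * ((n : G) * p * (n : G)⁻¹) = _
      calc (n : G) * y * (n : G)⁻¹ * ((n : G) * p * (n : G)⁻¹) =
          (n : G) * (p * y) * (n : G)⁻¹ := by rw [← hyp]; group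
        _ = (n : G) * p * (n : G)⁻¹ * ((n : G) * y * (n : G)⁻¹) := by group
        _ = _ := rfl
  exact h ⟨q, hq, rfl⟩

variable [Finite G]

theorem pair_pre {p : G} (hp : D.IsPair p) {h : G} (hh : D.Pre p h) : h ∈ D.M := by
  have hC : ∀ g ∈ D.H ⊓ centralizer {p}, g ∈ D.M := by
    intro g hg
    obtain ⟨o, ho, n, hn, rfl⟩ := D.ctl_pair hp g hg
    refine mul_mem (mem_sup_left (subset_closure ?_)) (mem_sup_right ⟨n.2, hn.1⟩)
    exact ⟨(core_le _ ho).1, odd_orderOf_of_mem (odd_core _) ho, p, hp,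
      mem_centralizer_singleton_iff.1 (core_le _ ho).2⟩
  rcases hh.2 with h1 | h1
  · exact hC h ⟨hh.1, mem_centralizer_singleton_iff.2 (mul_inv_eq_iff_eq_mul.1 h1)⟩
  · obtain ⟨n, hn, hne⟩ := D.pair_transitive hp (D.isPair_mul_a hp)
    have h2 : (n : G)⁻¹ * h ∈ D.H ⊓ centralizer {p} := by
      refine ⟨D.H.mul_mem (D.H.inv_mem hn) hh.1, mem_centralizer_singleton_iff.2 ?_⟩
      refine mul_inv_eq_iff_eq_mul.1 ?_
      rw [show (n : G)⁻¹ * h * p * ((n : G)⁻¹ * h)⁻¹ = (n : G)⁻¹ * (h * p * h⁻¹) * n by group,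
        h1, ← hne]
      group
    have h3 := D.M.mul_mem (show (n : G) ∈ D.M from mem_sup_right ⟨n.2, hn⟩) (hC _ h2)
    rwa [mul_inv_cancel_left] at h3

theorem out_pre {x : G} (hx : x ∈ (D.S : Subgroup G)) (hxA : x ∉ D.A)
    (hxx : x * x = 1 ∨ x * x = D.a) {h : G} (hh : D.Pre x h) : h ∈ D.M := by
  haveI : Fact (Nat.Prime 2) := ⟨Nat.prime_two⟩
  set U := D.A ⊓ centralizer {x} with hU
  set K := D.H ⊓ centralizer {x} with hKdef
  obtain ⟨p, hp, hpx, hconj⟩ := D.conj_fixed_pair hx hxA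
  -- the centraliser of `x`
  have hK : ∀ g ∈ K, g ∈ D.M := by
    intro g hg
    obtain ⟨o, ho, k, hk, hkN, rfl⟩ := D.ctl_out hx hxA hg
    refine mul_mem (mem_sup_left ?_) (D.pair_pre hp ⟨hk.1, hconj k hk.1 hkN⟩)
    exact D.mem_Qh_of_comm hx hxA hxx (core_le _ ho).1 (odd_orderOf_of_mem (odd_core _) ho)
      (mem_centralizer_singleton_iff.1 (core_le _ ho).2)
  have hUK : U ≤ K := fun u hu => ⟨D.A_le_H hu.1, hu.2⟩
  have hhU : cj h U ≤ K := by
    rintro _ ⟨u, hu, rfl⟩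
    have huH : h * u * h⁻¹ ∈ D.H := mul_mem (mul_mem hh.1 (hUK hu).1) (inv_mem hh.1)
    refine ⟨huH, mem_centralizer_singleton_iff.2 ?_⟩
    show h * u * h⁻¹ * x = x * (h * u * h⁻¹)
    have h1 : h * u * h⁻¹ * (h * x * h⁻¹) = h * x * h⁻¹ * (h * u * h⁻¹) := by
      rw [show h * u * h⁻¹ * (h * x * h⁻¹) = h * (u * x) * h⁻¹ by group,
        mem_centralizer_singleton_iff.1 hu.2]
      group
    rcases hh.2 with he | he <;> rw [he] at h1
    · exact h1
    · have h2 : Commute (h * u * h⁻¹) D.a := D.mem_H.1 huH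
      have := (Commute.mul_right (show Commute (h * u * h⁻¹) (x * D.a) from h1) h2).eq
      rwa [mul_assoc x, D.a_mul_a, mul_one] at this
  have hU2 : IsPGroup 2 U := D.isPGroup_A.to_le inf_le_left
  obtain ⟨P, hP⟩ := (hU2.of_injective (subgroupOfEquivOfLe hUK).toMonoidHom
    (subgroupOfEquivOfLe hUK).injective).exists_le_sylow
  set P' : Subgroup G := (P : Subgroup K).map K.subtype with hP'
  have hUP : U ≤ P' := fun a ha => ⟨⟨a, hUK ha⟩, hP (show (⟨a, hUK ha⟩ : K) ∈ U.subgroupOf K from ha), rfl⟩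
  have hodd : Odd (P'.relIndex K) := by
    have h1 := P.not_dvd_index
    have h2 : P'.relIndex K = (P : Subgroup K).index := by
      rw [hP', ← Subgroup.relIndex_top_right (H := (P : Subgroup K)),
        ← Subgroup.relIndex_map_map_of_injective (H := (P : Subgroup K)) (K := ⊤) (f := K.subtype)
          K.subtype_injective]
      rw [← MonoidHom.range_eq_map, Subgroup.range_subtype]
    rw [h2, Nat.odd_iff]
    omega
  obtain ⟨k, hk, hkle⟩ := exists_conj_into (P.isPGroup'.map K.subtype) (map_subtype_le _) hodd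
    (isPGroup_cj hU2) hhU
  rw [cj_cj] at hkle
  have hkN : k * h ∈ normalizer (U : Set G) := by
    refine mem_normalizer_of_cj (eq_of_le_of_card_ge ?_ (card_cj _ U).ge)
    rintro _ ⟨u, hu, rfl⟩
    exact D.fixed_closed hx hxA (P.isPGroup'.map K.subtype)
      ((map_subtype_le _).trans inf_le_right) hUP (hkle ⟨u, hu, rfl⟩)
      (D.AT_conj (D.AT_of_mem hu.1) _)
  have hkH : k * h ∈ D.H := mul_mem hk.1 hh.1
  have := mul_mem (inv_mem (hK k hk)) (D.pair_pre hp ⟨hkH, hconj _ hkH hkN⟩)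
  simpa using this

/-- An element of `M` of 2-power order lies in a conjugate of the Sylow subgroup by `M`. -/
theorem exists_conj_S {u : G} (hu : u ∈ D.M) {j : ℕ} (hj : u ^ 2 ^ j = 1) :
    ∃ m ∈ D.M, m * u * m⁻¹ ∈ (D.S : Subgroup G) := by
  obtain ⟨m, hm, hle⟩ := exists_conj_into D.S.isPGroup' D.S_le_M
    (sylow_relIndex_odd D.S D.S_le_M) (Q := zpowers u)
    (fun ⟨w, hw⟩ => by
      obtain ⟨i, rfl⟩ := mem_zpowers_iff.1 hw
      refine ⟨j, Subtype.ext ?_⟩
      show (u ^ i) ^ 2 ^ j = 1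
      rw [← zpow_natCast, ← zpow_mul, mul_comm, zpow_mul, zpow_natCast, hj, one_zpow])
    ((zpowers_le).2 hu)
  exact ⟨m, hm, hle ⟨u, mem_zpowers u, rfl⟩⟩

theorem pre_le_M {u : G} (hu : u ∈ D.M) {j : ℕ} (hj : u ^ 2 ^ j = 1)
    (huu : u * u = 1 ∨ u * u = D.a)
    (hcase : ¬ D.AT u ∨ ∃ g ∈ D.H, D.IsPair (g * u * g⁻¹)) {h : G} (hh : D.Pre u h) : h ∈ D.M := by
  obtain ⟨m, hm, hmS⟩ := D.exists_conj_S hu hj
  have hmH := D.M_le_H hm
  set x := m * u * m⁻¹ with hx
  have hxpre : D.Pre x (m * h * m⁻¹) := by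
    refine ⟨mul_mem (mul_mem hmH hh.1) (inv_mem hmH), ?_⟩
    rcases hh.2 with e | e
    · left
      rw [show m * h * m⁻¹ * x * (m * h * m⁻¹)⁻¹ = m * (h * u * h⁻¹) * m⁻¹ by rw [hx]; group, e, hx]
    · right
      rw [show m * h * m⁻¹ * x * (m * h * m⁻¹)⁻¹ = m * (h * u * h⁻¹) * m⁻¹ by rw [hx]; group, e,
        show m * (u * D.a) * m⁻¹ = x * (m * D.a * m⁻¹) by rw [hx]; group, D.a_comm hmH]
  have hM : m * h * m⁻¹ ∈ D.M := by
    rcases hcase with hc | ⟨g, hg, hp⟩
    · refine D.out_pre hmS (fun h => hc ⟨m, h⟩) ?_ hxpre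
      rw [show x * x = m * (u * u) * m⁻¹ by rw [hx]; group]
      rcases huu with e | e
      · exact Or.inl (by rw [e]; group)
      · exact Or.inr (by rw [e, D.a_comm hmH])
    · have hxA : x ∈ D.A := D.mem_A_of_AT_S hmS (D.AT_conj ⟨g, D.pair_mem hp⟩ m)
      have e : m * g⁻¹ * (g * u * g⁻¹) * (m * g⁻¹)⁻¹ = x := by rw [hx]; group
      obtain ⟨n, hn, hne⟩ := D.control D.A_le_H (mul_mem hmH (inv_mem hg)) (D.pair_mem hp)
        (by rwa [e])
      rw [e] at hne
      exact D.pair_pre (hne ▸ D.isPair_conj hp hn) hxpre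
  simpa [mul_assoc] using mul_mem (mul_mem (inv_mem hm) hM) hm

theorem not_isPair_AT {α r : G} (hα : α ∈ D.A) (hαW : α ∉ D.W) (hr : D.Pre α r) {j : ℕ}
    (hj : r ^ 2 ^ j = 1) : D.AT r := by
  haveI : Fact (Nat.Prime 2) := ⟨Nat.prime_two⟩
  obtain ⟨s, rfl⟩ := D.val_surj α hα
  have hs : ¬ Even (s.erase 4).card := fun h => hαW ⟨s, h, rfl⟩
  -- `r` centralises it
  have hrα : r * D.val s = D.val s * r := by
    refine mul_inv_eq_iff_eq_mul.1 (hr.2.resolve_right fun h => ?_)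
    apply D.not_conj
    have hcv : ∀ (π : Equiv.Perm (Fin 5)), Equiv.Perm.sign π = 1 → ∀ w u : Finset (Fin 5),
        (w.image π = u ∨ w.image π = uᶜ) → IsConj (D.val w) (D.val u) := by
      intro π hπ w u hwu
      obtain ⟨n, hn⟩ := D.φ_surj π hπ
      refine isConj_iff.2 ⟨n, ?_⟩
      rw [D.val_conj, hn]
      rcases hwu with e | e <;> rw [e]
      exact D.val_compl u
    have hss : IsConj (D.val s) (D.val (s ∆ {4})) := isConj_iff.2 ⟨r, by rw [h, Data.a, D.val_mul]⟩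
    obtain ⟨π, σ, hπ, hσ, ⟨h1, h2⟩ | ⟨h1, h2⟩⟩ := four_type_classes s hs
    · exact (hcv π hπ _ _ h1).trans (hss.trans (hcv σ hσ _ _ h2).symm)
    · exact (hcv π hπ _ _ h1).trans (hss.symm.trans (hcv σ hσ _ _ h2).symm)
  set K := D.H ⊓ centralizer {D.val s} with hK
  have hAK : D.A ≤ K := fun u hu =>
    ⟨D.A_le_H hu, mem_centralizer_singleton_iff.2 (D.comm hu (D.val_mem s))⟩
  obtain ⟨P, hP⟩ := (D.isPGroup_A.of_injective (subgroupOfEquivOfLe hAK).toMonoidHom
    (subgroupOfEquivOfLe hAK).injective).exists_le_sylow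
  set P' : Subgroup G := (P : Subgroup K).map K.subtype with hP'
  have hP2 : IsPGroup 2 P' := P.isPGroup'.map K.subtype
  have hAP : D.A ≤ P' := fun a ha => ⟨⟨a, hAK ha⟩, hP (show (⟨a, hAK ha⟩ : K) ∈ D.A.subgroupOf K from ha), rfl⟩
  have hodd : Odd (P'.relIndex K) := by
    have h1 := P.not_dvd_index
    have h2 : P'.relIndex K = (P : Subgroup K).index := by
      rw [hP', ← Subgroup.relIndex_top_right (H := (P : Subgroup K)),
        ← Subgroup.relIndex_map_map_of_injective (H := (P : Subgroup K)) (K := ⊤) (f := K.subtype)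
          K.subtype_injective]
      rw [← MonoidHom.range_eq_map, Subgroup.range_subtype]
    rw [h2, Nat.odd_iff]
    omega
  have hPA : P' ≤ D.A := by
    intro q hq
    have hqK : q ∈ K := map_subtype_le _ hq
    have hqN : q ∈ normalizer (D.A : Set G) :=
      D.closed.mem_normalizer hP2 hAP ((cj_mono hAP).trans (cj_eq_of_mem hq).le)
    obtain ⟨i, hi⟩ := hP2 ⟨q, hq⟩
    have hi' : q ^ 2 ^ i = 1 := congrArg Subtype.val hi
    set n : ↥(normalizer (D.A : Set G)) := ⟨q, hqN⟩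
    have ht : Tame (D.φ n) := D.tame_of_mem (n := n) hqK.1
    have h2 : D.φ n ^ 2 = 1 := by
      rcases tame_orders _ ht with h | h
      · exact h
      · have h3 : D.φ n = 1 := eq_one_of_odd_of_pow
          ((show Odd 3 by decide).of_dvd_nat (orderOf_dvd_of_pow_eq_one h)) (j := i)
          (by rw [← map_pow, show n ^ 2 ^ i = 1 from Subtype.ext hi', map_one])
        rw [h3, one_pow]
    exact D.cent_two q ((D.φ_one n).1 (four_type_stab _ ht h2 s hs
      (D.image_of_commute n (mem_centralizer_singleton_iff.1 hqK.2)))) ⟨i, hi'⟩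
  obtain ⟨k, -, hle⟩ := exists_conj_into hP2 (map_subtype_le _) hodd (Q := zpowers r)
    (fun ⟨w, hw⟩ => by
      obtain ⟨i, rfl⟩ := mem_zpowers_iff.1 hw
      refine ⟨j, Subtype.ext ?_⟩
      show (r ^ i) ^ 2 ^ j = 1
      rw [← zpow_natCast, ← zpow_mul, mul_comm, zpow_mul, zpow_natCast, hj, one_zpow])
    ((zpowers_le).2 ⟨hr.1, mem_centralizer_singleton_iff.2 hrα⟩)
  exact ⟨k, hPA (hle ⟨r, mem_zpowers r, rfl⟩)⟩

/-- Every conjugate of the pair `c` in `H` lies in `M`. -/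
theorem conj_c_mem {h : G} (hh : h ∈ D.H) : h * D.c * h⁻¹ ∈ D.M := by
  set p := h * D.c * h⁻¹ with hp'
  set r := D.t with hr'
  have hpAT : D.AT p := D.AT_conj (D.AT_of_mem D.c_mem) h
  have hrAT : ¬ D.AT r := D.not_AT_t
  have hrS : r ∈ (D.S : Subgroup G) := D.ht
  have hrH : r ∈ D.H := D.S_le_H hrS
  have hpH : p ∈ D.H := mul_mem (mul_mem hh (D.A_le_H D.c_mem)) (inv_mem hh)
  have hp2 : orderOf p = 2 := by
    rw [hp', show h * D.c * h⁻¹ = MulAut.conj h D.c from rfl, MulEquiv.orderOf_eq]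
    exact D.orderOf_of_mem D.c_mem (D.isPair_ne D.isPair_c).1
  have hr2 : orderOf r = 2 := by
    haveI : Fact (Nat.Prime 2) := ⟨Nat.prime_two⟩
    exact orderOf_eq_prime (by rw [pow_two]; exact D.ht2) (fun e => hrAT (e ▸ D.AT_of_mem (one_mem _)))
  have heven : Even (orderOf (p * r)) := Involutions.even_order_of_not_isConj hp2 hr2 fun hc => by
    obtain ⟨g, hg⟩ := isConj_iff.1 hc
    exact hrAT (hg ▸ D.AT_conj hpAT g)
  obtain ⟨hz2, hzp, hzr⟩ := Involutions.central_involution hp2 hr2 heven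
  set m := orderOf (p * r) / 2 with hm
  set z := (p * r) ^ m with hz
  have hzH : z ∈ D.H := pow_mem (mul_mem hpH hrH) m
  -- an element inverted or centralised by both
  obtain ⟨u, huH, hu1, hua, hu4, huu, hup, hur⟩ : ∃ u, u ∈ D.H ∧ u ≠ 1 ∧ u ≠ D.a ∧ u ^ 2 ^ 2 = 1 ∧
      (u * u = 1 ∨ u * u = D.a) ∧ (p * u * p⁻¹ = u ∨ p * u * p⁻¹ = u * D.a) ∧
      (r * u * r⁻¹ = u ∨ r * u * r⁻¹ = u * D.a) := by
    by_cases hza : z = D.a
    · rcases Nat.even_or_odd' m with ⟨k, hk | hk⟩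
      · set u := (p * r) ^ k with hu
        have huu : u * u = D.a := by rw [hu, ← pow_add, ← two_mul, ← hk, ← hza]
        have hinv : u⁻¹ = u * D.a := inv_eq_of_mul_eq_one_right (by rw [← mul_assoc, huu, D.a_mul_a])
        refine ⟨u, pow_mem (mul_mem hpH hrH) k, fun e => ?_, fun e => ?_, ?_, Or.inr huu,
          Or.inr ?_, Or.inr ?_⟩
        · rw [e, one_mul] at huu
          exact D.a_ne_one huu.symm
        · rw [e, D.a_mul_a] at huu
          exact D.a_ne_one huu.symm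
        · calc u ^ 2 ^ 2 = (u * u) * (u * u) := by
                simp only [show (2 : ℕ) ^ 2 = 4 from rfl, pow_succ, pow_zero, one_mul, mul_assoc]
            _ = 1 := by rw [huu, D.a_mul_a]
        · rw [← hinv]
          exact Involutions.inverts_pow (Involutions.left_inverts_prod hp2 hr2) k
        · rw [← hinv]
          exact Involutions.inverts_pow (Involutions.right_inverts_prod hp2 hr2) k
      · exfalso
        apply hrAT
        have hat : D.AT (p * D.a) := D.AT_mul hpAT (D.AT_of_mem D.a_mem) (D.mem_H.1 hpH)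
        set w := (p * r) ^ k with hw
        have h1 : r * w * r⁻¹ = w⁻¹ := Involutions.inverts_pow (Involutions.right_inverts_prod hp2 hr2) k
        have h2 : p * D.a = w⁻¹ * r * w := by
          calc p * D.a = p * (p * r * (w * w)) := by
                rw [hw, ← pow_add, ← two_mul, ← pow_succ', ← hk, ← hz, hza]
            _ = p * p * (r * (w * w)) := by simp only [mul_assoc]
            _ = r * (w * w) := by rw [Involutions.mul_self_eq_one hp2, one_mul]
            _ = r * w * r⁻¹ * r * w := by group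
            _ = w⁻¹ * r * w := by rw [h1]
        have := D.AT_conj hat w
        rwa [h2, show w * (w⁻¹ * r * w) * w⁻¹ = r by group] at this
    · refine ⟨z, hzH, Involutions.ne_one_of_involution hz2, hza, ?_,
        Or.inl (Involutions.mul_self_eq_one hz2), Or.inl (mul_inv_eq_iff_eq_mul.2 hzp.eq.symm),
        Or.inl (mul_inv_eq_iff_eq_mul.2 hzr.eq.symm)⟩
      rw [show (2 : ℕ) ^ 2 = 2 * 2 by norm_num, pow_mul, pow_two z, Involutions.mul_self_eq_one hz2,
        one_pow]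
  have huM : u ∈ D.M := by
    refine D.out_pre hrS D.htA (Or.inl D.ht2) ⟨huH, ?_⟩
    rcases hur with e | e
    · left
      rw [mul_inv_eq_iff_eq_mul]
      exact (mul_inv_eq_iff_eq_mul.1 e).symm
    · right
      have e' : r * u = u * r * D.a := by
        rw [mul_inv_eq_iff_eq_mul.1 e, mul_assoc, mul_assoc, ← D.mem_H.1 hrH]
      have e'' : r * u * D.a = u * r := by rw [e', mul_assoc, D.a_mul_a, mul_one]
      calc u * r * u⁻¹ = r * u * D.a * u⁻¹ := by rw [e'']
        _ = r * (D.a * u) * u⁻¹ := by rw [mul_assoc r u, D.mem_H.1 huH]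
        _ = r * D.a := by group
  refine D.pre_le_M huM hu4 huu ?_ (h := p) ⟨hpH, hup⟩
  by_cases hat : D.AT u
  · right
    obtain ⟨g, hg, hgS⟩ := D.exists_conj_S huM hu4
    have hgH := D.M_le_H hg
    set α := g * u * g⁻¹ with hα
    have hαA : α ∈ D.A := D.mem_A_of_AT_S hgS (D.AT_conj hat g)
    refine ⟨g, hgH, ?_⟩
    by_cases hW : α ∈ D.W
    · rcases D.W_cases hW with e | e | e
      · exact absurd (conj_eq_one_iff.1 e) hu1
      · rw [← D.a_comm hgH] at e
        exact absurd (mul_left_cancel (mul_right_cancel e)) hua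
      · exact e
    · exfalso
      apply hrAT
      rw [← D.AT_conj_iff g]
      refine D.not_isPair_AT hαA hW ⟨mul_mem (mul_mem hgH hrH) (inv_mem hgH), ?_⟩ (j := 1) ?_
      · rcases hur with e | e
        · left
          rw [show g * r * g⁻¹ * α * (g * r * g⁻¹)⁻¹ = g * (r * u * r⁻¹) * g⁻¹ by rw [hα]; group, e]
        · right
          rw [show g * r * g⁻¹ * α * (g * r * g⁻¹)⁻¹ = g * (r * u * r⁻¹) * g⁻¹ by rw [hα]; group, e,
            show g * (u * D.a) * g⁻¹ = α * (g * D.a * g⁻¹) by rw [hα]; group, D.a_comm hgH]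
      · rw [pow_one, pow_two, show g * r * g⁻¹ * (g * r * g⁻¹) = g * (r * r) * g⁻¹ by group, D.ht2]
        group
  · exact Or.inl hat

/-- The centraliser of `a` is controlled. -/
theorem ctl_H : D.Ctl D.H := by
  have hHM : D.H ≤ D.M := by
    intro h hh
    obtain ⟨m, hm, hmS⟩ := D.exists_conj_S (D.conj_c_mem hh) (j := 1) (by
      rw [pow_one, pow_two, show h * D.c * h⁻¹ * (h * D.c * h⁻¹) = h * (D.c * D.c) * h⁻¹ by group,
        D.sq_eq_one D.c_mem]
      group)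
    have hmh : m * h ∈ D.H := mul_mem (D.M_le_H hm) hh
    rw [show m * (h * D.c * h⁻¹) * m⁻¹ = m * h * D.c * (m * h)⁻¹ by group] at hmS
    obtain ⟨n, hn, hne⟩ := D.control D.A_le_H hmh D.c_mem
      (D.mem_A_of_AT_S hmS (D.AT_conj (D.AT_of_mem D.c_mem) _))
    have h2 : (n : G)⁻¹ * (m * h) ∈ D.M := D.pair_pre D.isPair_c ⟨mul_mem (inv_mem hn) hmh, Or.inl (by
      rw [show (n : G)⁻¹ * (m * h) * D.c * ((n : G)⁻¹ * (m * h))⁻¹ =
        (n : G)⁻¹ * (m * h * D.c * (m * h)⁻¹) * n by group, ← hne]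
      group)⟩
    have h3 : m⁻¹ * ((n : G) * ((n : G)⁻¹ * (m * h))) ∈ D.M :=
      mul_mem (inv_mem hm) (mul_mem (mem_sup_right ⟨n.2, hn⟩) h2)
    simpa using h3
  have hQ : ∀ n ∈ normalizer (D.A : Set G) ⊓ D.H, ∀ q ∈ D.Qh, n * q * n⁻¹ ∈ D.Qh :=
    fun n hn q hq => D.conj_Qh (n := ⟨n, hn.1⟩) hn.2 hq
  have hle : D.Qh ≤ core D.H := by
    refine le_core D.Qh_le_H D.odd_Qh fun k hk q hq => ?_
    obtain ⟨o, ho, n, hn, rfl⟩ := exists_of_mem_sup hQ (hHM hk)
    rw [show o * n * q * (o * n)⁻¹ = o * (n * q * n⁻¹) * o⁻¹ by group]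
    exact mul_mem (mul_mem ho (hQ n hn q hq)) (inv_mem ho)
  intro g hg
  obtain ⟨o, ho, n, hn, rfl⟩ := exists_of_mem_sup hQ (hHM hg)
  exact ⟨o, hle ho, ⟨n, hn.1⟩, hn.2, rfl⟩

end Data

end CfsgLib.AltEightThree
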