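import Cfsg.Agent.Lib.AltEightThree.Local
import Cfsg.Agent.Lib.Solvable.CoprimeGeneration
import Cfsg.Agent.S0205
import Cfsg.Agent.S0217

/-!
The completion of the cores of the centralisers modulo `a` inside the centraliser of `a`.
-/

set_option autoImplicit false

namespace CfsgLib.AltEightThree

open Subgroup CfsgLib.TwoGroups.FT
open scoped symmDiff

/-- Four sets representing the pairs modulo the fixed point. -/
def repPair : Fin 4 → Finset (Fin 5) := ![∅, {0, 1}, {1, 2}, {0, 2}]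

theorem repPair_even : ∀ i, Even ((repPair i).erase 4).card := by decide +kernel

theorem repPair_inj : ∀ i j, (repPair i ∆ repPair j = ∅ ∨ repPair i ∆ repPair j = Finset.univ ∨
    repPair i ∆ repPair j = {4} ∨ repPair i ∆ repPair j = {4}ᶜ) → i = j := by decide +kernel

theorem exists_odd_lift {M N : Type*} [Group M] [Group N] [Finite M] (f : M →* N)
    (hf : Function.Surjective f) {q : N} (hq : Odd (orderOf q)) :
    ∃ y : M, Odd (orderOf y) ∧ f y = q := by
  obtain ⟨m, rfl⟩ := hf q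
  obtain ⟨a, k, hk, ho⟩ := Nat.exists_eq_two_pow_mul_odd (orderOf_pos m).ne'
  obtain ⟨i, hi⟩ := exists_pow_eq_self_of_coprime (x := f m) (n := 2 ^ a)
    (Nat.Coprime.pow_left a (Nat.coprime_two_left.mpr hq))
  refine ⟨(m ^ 2 ^ a) ^ i, ?_, by rw [map_pow, map_pow, hi]⟩
  have h1 : Odd (orderOf (m ^ 2 ^ a)) := by
    rw [orderOf_pow' _ (pow_ne_zero a two_ne_zero), ho, Nat.gcd_mul_right_left,
      Nat.mul_div_cancel_left _ (pow_pos two_pos a)]
    exact hk
  exact h1.of_dvd_nat (orderOf_pow_dvd i)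

namespace Data

variable {G : Type*} [Group G] (D : Data G)

/-- The generators of the completion. -/
def QGen : Set G := {y | y ∈ D.H ∧ Odd (orderOf y) ∧ ∃ p, D.IsPair p ∧ y * p = p * y}

/-- The completion. -/
def Qh : Subgroup G := closure D.QGen

theorem Qh_le_H : D.Qh ≤ D.H := (closure_le _).2 fun _ hy => hy.1

theorem isPair_val {i : Fin 4} (hi : i ≠ 0) : D.IsPair (D.val (repPair i)) := by
  refine ⟨repPair i, ?_, ?_, rfl⟩ <;> revert hi <;> revert i <;> decide +kernel

variable [Finite G]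

theorem completion_aux {x : G} (hx : x ∈ (D.S : Subgroup G)) (hxA : x ∉ D.A)
    (hxx : x * x = 1 ∨ x * x = D.a) :
    Odd (Nat.card D.Qh) ∧ ∀ y ∈ D.H, Odd (orderOf y) → y * x = x * y → y ∈ D.Qh := by
  classical
  haveI hF : Fact (Nat.Prime 2) := ⟨Nat.prime_two⟩
  let z : D.H := ⟨D.a, D.A_le_H D.a_mem⟩
  haveI hn : (zpowers z).Normal := ⟨fun u hu g => by
    obtain ⟨i, rfl⟩ := mem_zpowers_iff.1 hu
    have hc : Commute g z := Subtype.ext (D.mem_H.1 g.2)
    rw [(hc.zpow_right i).eq, mul_inv_cancel_right]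
    exact zpow_mem (mem_zpowers z) i⟩
  set π : D.H →* D.H ⧸ zpowers z := QuotientGroup.mk' (zpowers z) with hπ
  have hker : ∀ u : D.H, π u = 1 ↔ ((u : G) = 1 ∨ (u : G) = D.a) := by
    intro u
    rw [hπ, QuotientGroup.mk'_apply, QuotientGroup.eq_one_iff]
    constructor
    · intro hu
      obtain ⟨i, hi⟩ := mem_zpowers_iff.1 hu
      have hzz : z * z = 1 := Subtype.ext D.a_mul_a
      rcases Int.even_or_odd i with ⟨j, hj⟩ | ⟨j, hj⟩ <;> subst hj
      · rw [← two_mul, zpow_mul, zpow_two, hzz, one_zpow] at hi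
        exact Or.inl (congrArg Subtype.val hi).symm
      · rw [zpow_add, zpow_mul, zpow_two, hzz, one_zpow, one_mul, zpow_one] at hi
        exact Or.inr (congrArg Subtype.val hi).symm
    · rintro (h | h)
      · rw [show u = 1 from Subtype.ext h]
        exact one_mem _
      · rw [show u = z from Subtype.ext h]
        exact mem_zpowers z
  have hsurj : Function.Surjective π := QuotientGroup.mk'_surjective _
  let x' : D.H := ⟨x, D.S_le_H hx⟩
  set Wb := (D.W.subgroupOf D.H).map π with hWb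
  have hWb_mem : ∀ e ∈ Wb, ∃ (w : G) (hw : w ∈ D.W), π ⟨w, D.A_le_H (D.W_le_A hw)⟩ = e := by
    rintro _ ⟨w, hw, rfl⟩
    exact ⟨w, hw, rfl⟩
  have hWb_comm : ∀ e ∈ Wb, ∀ f ∈ Wb, e * f = f * e := by
    rintro _ ⟨w, hw, rfl⟩ _ ⟨u, hu, rfl⟩
    rw [← map_mul, ← map_mul]
    exact congrArg π (Subtype.ext (D.comm (D.W_le_A hw) (D.W_le_A hu)))
  have hWb_sq : ∀ e ∈ Wb, e * e = 1 := by
    rintro _ ⟨w, hw, rfl⟩
    rw [← map_mul]
    exact (hker _).2 (Or.inl (D.sq_eq_one (D.W_le_A hw)))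
  have hxcomm : ∀ e ∈ Wb, π x' * e = e * π x' := by
    intro e he
    obtain ⟨w, hw, rfl⟩ := hWb_mem e he
    refine mul_inv_eq_iff_eq_mul.1 ?_
    rw [← map_inv, ← map_mul, ← map_mul]
    rcases D.S_comm_W hx hw with h | h
    · exact congrArg π (Subtype.ext h)
    · rw [show x' * (⟨w, D.A_le_H (D.W_le_A hw)⟩ : D.H) * x'⁻¹ =
          ⟨w, D.A_le_H (D.W_le_A hw)⟩ * z from Subtype.ext h, map_mul,
        show π z = 1 from (hker z).2 (Or.inr rfl), mul_one]
  have hxsq : π x' * π x' = 1 := by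
    rw [← map_mul]
    exact (hker _).2 hxx
  set E := Wb ⊔ zpowers (π x') with hE
  have hEmem : ∀ e ∈ E, ∃ w ∈ Wb, e = w ∨ e = w * π x' := by
    intro e he
    obtain ⟨w, hw, l, hl, rfl⟩ := exists_of_mem_sup (fun l hl w hw => by
      obtain ⟨i, rfl⟩ := mem_zpowers_iff.1 hl
      rw [((show Commute (π x') w from hxcomm w hw).zpow_left i).eq, mul_inv_cancel_right]
      exact hw) he
    refine ⟨w, hw, ?_⟩
    obtain ⟨i, rfl⟩ := mem_zpowers_iff.1 hl
    rcases Int.even_or_odd i with ⟨j, rfl⟩ | ⟨j, rfl⟩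
    · left
      rw [← two_mul, zpow_mul, zpow_two, hxsq, one_zpow, mul_one]
    · right
      rw [zpow_add, zpow_mul, zpow_two, hxsq, one_zpow, one_mul, zpow_one]
  have hEcomm : ∀ e ∈ E, ∀ f ∈ E, e * f = f * e := by
    intro e he f hf
    obtain ⟨u, hu, he⟩ := hEmem e he
    obtain ⟨w, hw, hf⟩ := hEmem f hf
    have h1 : Commute u w := hWb_comm u hu w hw
    have h2 : Commute (π x') u := hxcomm u hu
    have h3 : Commute (π x') w := hxcomm w hw
    have h4 : Commute (π x') (π x') := rfl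
    rcases he with rfl | rfl <;> rcases hf with rfl | rfl
    · exact h1.eq
    · exact (h1.mul_right h2.symm).eq
    · exact (h1.mul_left h3).eq
    · exact ((h1.mul_left h3).mul_right (h2.symm.mul_left h4)).eq
  have hEsq : ∀ e ∈ E, e ^ 2 = 1 := by
    intro e he
    rw [pow_two]
    obtain ⟨u, hu, rfl | rfl⟩ := hEmem e he
    · exact hWb_sq _ hu
    · rw [mul_assoc, ← mul_assoc (π x'), hxcomm u hu, mul_assoc u (π x'), hxsq, mul_one, hWb_sq u hu]
  -- the order
  let w' : Fin 4 → D.H := fun i => ⟨D.val (repPair i), D.A_le_H (D.val_mem _)⟩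
  have hw' : ∀ i, π (w' i) ∈ Wb := fun i => ⟨w' i, ⟨repPair i, repPair_even i, rfl⟩, rfl⟩
  have hw'inj : ∀ i j, π (w' i) = π (w' j) → i = j := by
    intro i j h
    have h1 : π (w' i * w' j) = 1 := by rw [map_mul, h, hWb_sq _ (hw' j)]
    refine repPair_inj i j ?_
    rcases (hker _).1 h1 with h | h <;> change D.val _ * D.val _ = _ at h <;> rw [D.val_mul] at h
    · rcases (D.val_eq_one _).1 h with h | h
      exacts [Or.inl h, Or.inr (Or.inl h)]
    · rcases (D.val_eq_iff _ {4}).1 h with h | h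
      · exact Or.inr (Or.inr (Or.inl h.symm))
      · exact Or.inr (Or.inr (Or.inr (by rw [h, compl_compl])))
  have hxnW : π x' ∉ Wb := by
    intro h
    obtain ⟨w, hw, hwe⟩ := hWb_mem _ h
    have h1 : π (⟨w, D.A_le_H (D.W_le_A hw)⟩⁻¹ * x') = 1 := by rw [map_mul, map_inv, hwe, inv_mul_cancel]
    rcases (hker _).1 h1 with h | h
    · exact hxA ((eq_of_inv_mul_eq_one (a := w) (b := x) h) ▸ D.W_le_A hw)
    · exact hxA (by
        rw [show x = w * (w⁻¹ * x) by group, show w⁻¹ * x = D.a from h]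
        exact mul_mem (D.W_le_A hw) D.a_mem)
  have hcard4 : 4 ≤ Nat.card Wb := by
    have := Nat.card_le_card_of_injective (fun i : Fin 4 => (⟨π (w' i), hw' i⟩ : Wb))
      (fun i j h => hw'inj i j (congrArg Subtype.val h))
    simpa using this
  have hcard8 : 2 ^ 3 ≤ Nat.card E := by
    have h1 := relIndex_mul_relIndex ⊥ Wb E bot_le le_sup_left
    rw [relIndex_bot_left, relIndex_bot_left] at h1
    have h2 : Wb.relIndex E ≠ 1 := fun h =>
      hxnW (Subgroup.relIndex_eq_one.1 h (mem_sup_right (mem_zpowers _)))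
    have h3 : Wb.relIndex E ≠ 0 := fun h => by
      rw [h, mul_zero] at h1
      exact Nat.card_pos.ne h1
    have h4 : 2 ≤ Wb.relIndex E := by omega
    rw [← h1]
    exact (Nat.mul_le_mul hcard4 h4).trans' (by norm_num)
  -- lifts of the non-trivial elements
  have hlift : ∀ e ∈ E, e ≠ 1 → ∃ l : D.H, π l = e ∧ OddClosed (D.H ⊓ centralizer {(l : G)}) := by
    intro e he hne
    obtain ⟨u, hu, he⟩ := hEmem e he
    obtain ⟨w, hw, rfl⟩ := hWb_mem u hu
    rcases he with rfl | rfl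
    · refine ⟨⟨w, D.A_le_H (D.W_le_A hw)⟩, rfl, D.oddClosed_pair ?_⟩
      rcases D.W_cases hw with h | h | h
      · exact absurd ((hker _).2 (Or.inl h)) hne
      · exact absurd ((hker _).2 (Or.inr h)) hne
      · exact h
    · refine ⟨⟨w, D.A_le_H (D.W_le_A hw)⟩ * x', map_mul π _ _,
        D.oddClosed_out (mul_mem (D.hAS (D.W_le_A hw)) hx) fun h => ?_⟩
      exact hxA ((D.A.mul_mem_cancel_left (D.W_le_A hw)).1 h)
  have hfix : ∀ (l y : D.H), Odd (orderOf (y : G)) → π y * π l = π l * π y →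
      (y : G) * l = l * y := by
    intro l y hy h
    refine D.odd_commute y.2 hy ?_
    have h1 : π (l⁻¹ * (y * l * y⁻¹)) = 1 := by
      rw [map_mul, map_mul, map_mul, map_inv, map_inv, h]
      group
    rcases (hker _).1 h1 with h | h
    · exact Or.inl (inv_mul_eq_one.1 h).symm
    · exact Or.inr (inv_mul_eq_iff_eq_mul.1 h)
  let θ : D.H ⧸ zpowers z → Subgroup (D.H ⧸ zpowers z) :=
    fun e => closure {y | Odd (orderOf y) ∧ y * e = e * y}
  have hθle : ∀ (l : D.H) (R : Subgroup G), (∀ y ∈ D.H ⊓ centralizer {(l : G)}, Odd (orderOf y) → y ∈ R) →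
      θ (π l) ≤ (R.subgroupOf D.H).map π := by
    intro l R hR
    refine (closure_le _).2 fun q hq => ?_
    obtain ⟨y, hy, rfl⟩ := exists_odd_lift π hsurj hq.1
    rw [← Subgroup.orderOf_coe] at hy
    exact ⟨y, hR y ⟨y.2, mem_centralizer_singleton_iff.2 (hfix l y hy hq.2)⟩ hy, rfl⟩
  have hθodd : ∀ e ∈ E, e ≠ 1 → Odd (Nat.card (θ e)) := by
    intro e he hne
    obtain ⟨l, rfl, R, hR, hRo, hRm⟩ := hlift e he hne
    refine Odd.of_dvd_nat ?_ (card_dvd_of_le (hθle l R hRm))
    refine Odd.of_dvd_nat hRo ((Subgroup.card_map_dvd _ _).trans ?_)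
    exact (Nat.card_congr (subgroupOfEquivOfLe (hR.trans inf_le_left)).toEquiv).dvd
  obtain ⟨hodd, hC⟩ := Cfsg.Agent.S0217.result (p := 2) E hEcomm hEsq hcard8 θ
    (fun e _ _ => (closure_le _).2 fun y hy => mem_centralizer_singleton_iff.2 hy.2)
    (fun e he hne => by
      have := hθodd e he hne
      rw [Nat.odd_iff] at this
      omega)
    (fun e he hne b hb y hy => by
      have : (θ e).map (MulAut.conj b).toMonoidHom ≤ θ e := by
        rw [MonoidHom.map_closure]
        refine (closure_le _).2 ?_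
        rintro _ ⟨u, hu, rfl⟩
        refine subset_closure ⟨?_, ?_⟩
        · show Odd (orderOf (MulAut.conj b u))
          rw [MulEquiv.orderOf_eq]
          exact hu.1
        · show b * u * b⁻¹ * e = e * (b * u * b⁻¹)
          have h1 : Commute b e := hEcomm b hb e he
          have h2 : Commute u e := hu.2
          exact ((h1.mul_left h2).mul_left h1.inv_left).eq
      exact this ⟨y, hy, rfl⟩)
    (fun e he hne => Cfsg.Agent.S0205.result (hθodd e he hne))
    (fun e he hne f hf _ y hy => by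
      exact subset_closure ⟨odd_orderOf_of_mem (hθodd e he hne) hy.1,
        mem_centralizer_singleton_iff.1 hy.2⟩)
  set Qb := ⨆ e : {e : D.H ⧸ zpowers z // e ∈ E ∧ e ≠ 1}, θ e with hQb
  have hQodd : Odd (Nat.card Qb) := by
    rw [Nat.odd_iff]
    omega
  -- the completion is generated by the centralisers of the pairs
  have hQle : Qb ≤ (D.Qh.subgroupOf D.H).map π := by
    haveI : IsMulCommutative Wb := ⟨⟨fun a b => Subtype.ext (hWb_comm a a.2 b b.2)⟩⟩
    have hnc : ¬ IsCyclic Wb := by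
      intro hc
      obtain ⟨g, hg⟩ := IsCyclic.exists_generator (α := Wb)
      have h1 := orderOf_eq_card_of_forall_mem_zpowers hg
      have h2 : g ^ 2 = 1 := Subtype.ext (by
        rw [SubmonoidClass.coe_pow, pow_two, OneMemClass.coe_one]
        exact hWb_sq g g.2)
      have h3 := Nat.le_of_dvd two_pos (orderOf_dvd_of_pow_eq_one h2)
      omega
    have hnorm : Wb ≤ normalizer (Qb : Set (D.H ⧸ zpowers z)) := by
      intro b hb
      refine mem_normalizer_of_cj (eq_of_le_of_card_ge ?_ (card_cj b Qb).ge)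
      rw [hQb, cj, Subgroup.map_iSup]
      refine iSup_le fun e => le_trans ?_ (le_iSup _ e)
      rw [MonoidHom.map_closure]
      refine (closure_le _).2 ?_
      rintro _ ⟨u, hu, rfl⟩
      refine subset_closure ⟨?_, ?_⟩
      · show Odd (orderOf (MulAut.conj b u))
        rw [MulEquiv.orderOf_eq]
        exact hu.1
      · show b * u * b⁻¹ * e = e * (b * u * b⁻¹)
        have h1 : Commute b (e : D.H ⧸ zpowers z) := hEcomm b (mem_sup_left hb) e e.2.1
        have h2 : Commute u (e : D.H ⧸ zpowers z) := hu.2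
        exact ((h1.mul_left h2).mul_left h1.inv_left).eq
    have hcop : (Nat.card Wb).Coprime (Nat.card Qb) := by
      obtain ⟨k, hk⟩ := ((IsPGroup.of_surjective (D.isPGroup_A.to_le D.W_le_A |>.of_injective
        (subgroupOfEquivOfLe (D.W_le_A.trans D.A_le_H)).toMonoidHom
        (subgroupOfEquivOfLe (D.W_le_A.trans D.A_le_H)).injective) (π.subgroupMap (D.W.subgroupOf D.H))
        (π.subgroupMap_surjective _)) : IsPGroup 2 Wb).exists_card_eq
      rw [hk]
      exact Nat.Coprime.pow_left k (Nat.coprime_two_left.mpr hQodd)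
    rw [← CfsgLib.CoprimeGeneration.iSup_centralizer_eq Wb Qb hnc hnorm hcop]
    refine iSup₂_le fun e he => ?_
    obtain ⟨w, hw, hwe⟩ := hWb_mem e he.1
    have hp : D.IsPair w := by
      rcases D.W_cases hw with h | h | h
      · exact absurd (hwe ▸ (hker _).2 (Or.inl h)) he.2
      · exact absurd (hwe ▸ (hker _).2 (Or.inr h)) he.2
      · exact h
    rw [hC e (mem_sup_left he.1) he.2, ← hwe]
    refine hθle _ D.Qh fun y hy hyo => subset_closure ⟨hy.1, hyo, w, hp, ?_⟩
    exact mem_centralizer_singleton_iff.1 hy.2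
  have hQge : (D.Qh.subgroupOf D.H).map π ≤ Qb := by
    rintro _ ⟨y, hy, rfl⟩
    change (y : G) ∈ D.Qh at hy
    suffices h : D.Qh ≤ (Qb.comap π).map D.H.subtype by
      obtain ⟨u, hu, hue⟩ := h hy
      rw [show y = u from (Subtype.ext hue).symm]
      exact hu
    refine (closure_le _).2 ?_
    rintro u ⟨huH, huo, p, hp, hup⟩
    refine ⟨⟨u, huH⟩, ?_, rfl⟩
    have hp' : π ⟨p, D.A_le_H (D.pair_mem hp)⟩ ∈ Wb := ⟨⟨p, D.A_le_H (D.pair_mem hp)⟩, D.pair_mem_W hp, rfl⟩
    have hne : π ⟨p, D.A_le_H (D.pair_mem hp)⟩ ≠ 1 := fun h => by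
      rcases (hker _).1 h with h | h
      exacts [(D.isPair_ne hp).1 h, (D.isPair_ne hp).2 h]
    refine le_iSup (fun e : {e : D.H ⧸ zpowers z // e ∈ E ∧ e ≠ 1} => θ e)
      ⟨_, mem_sup_left hp', hne⟩ (subset_closure ⟨?_, ?_⟩)
    · exact Odd.of_dvd_nat (by rwa [← Subgroup.orderOf_mk u huH] at huo) (orderOf_map_dvd π _)
    · rw [← map_mul, ← map_mul]
      exact congrArg π (Subtype.ext hup)
  -- descend
  set X := (Qb.comap π).map D.H.subtype with hX
  have hXcard : Nat.card X = 2 * Nat.card Qb := by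
    rw [← Nat.card_congr ((Qb.comap π).equivMapOfInjective D.H.subtype D.H.subtype_injective).toEquiv]
    have h1 := (Qb.comap π).card_mul_index
    rw [Subgroup.index_comap_of_surjective _ hsurj,
      Subgroup.card_eq_card_quotient_mul_card_subgroup (zpowers z), ← Qb.card_mul_index,
      Nat.card_zpowers, show orderOf z = 2 by rw [← Subgroup.orderOf_coe]; exact D.orderOf_a] at h1
    have h2 : 0 < Qb.index := Nat.pos_of_ne_zero index_ne_zero_of_finite
    nlinarith
  obtain ⟨R, hR, hRo, hRm⟩ := exists_oddPart hQodd hXcard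
  have hQX : D.Qh ≤ X := fun y hy =>
    ⟨⟨y, D.Qh_le_H hy⟩, hQge ⟨⟨y, D.Qh_le_H hy⟩, hy, rfl⟩, rfl⟩
  have hQR : D.Qh ≤ R := (closure_le _).2 fun y hy => hRm y (hQX (subset_closure hy)) hy.2.1
  have hQhodd : Odd (Nat.card D.Qh) := hRo.of_dvd_nat (card_dvd_of_le hQR)
  refine ⟨hQhodd, fun y hyH hyo hyx => ?_⟩
  have hx' : π x' ∈ E := mem_sup_right (mem_zpowers _)
  have hne : π x' ≠ 1 := fun h => hxnW (h ▸ one_mem _)
  have h1 : π ⟨y, hyH⟩ ∈ Qb := by
    refine le_iSup (fun e : {e : D.H ⧸ zpowers z // e ∈ E ∧ e ≠ 1} => θ e) ⟨_, hx', hne⟩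
      (subset_closure ⟨?_, ?_⟩)
    · exact Odd.of_dvd_nat (by rwa [← Subgroup.orderOf_mk y hyH] at hyo) (orderOf_map_dvd π _)
    · rw [← map_mul, ← map_mul]
      exact congrArg π (Subtype.ext hyx)
  have hyR : y ∈ R := hRm y ⟨⟨y, hyH⟩, h1, rfl⟩ hyo
  obtain ⟨q, hq, hqe⟩ := hQle h1
  change (q : G) ∈ D.Qh at hq
  have h2 : π (q⁻¹ * ⟨y, hyH⟩) = 1 := by rw [map_mul, map_inv, hqe, inv_mul_cancel]
  rcases (hker _).1 h2 with h | h
  · exact (inv_mul_eq_one.1 (show (q : G)⁻¹ * y = 1 from h)) ▸ hq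
  · have h3 : (q : G)⁻¹ * y ∈ R := mul_mem (inv_mem (hQR hq)) hyR
    rw [show (q : G)⁻¹ * y = D.a from h] at h3
    exact absurd (eq_one_of_odd_of_pow (j := 1) (odd_orderOf_of_mem hRo h3)
      (by rw [pow_one, pow_two, D.a_mul_a])) D.a_ne_one

theorem odd_Qh : Odd (Nat.card D.Qh) := (D.completion_aux D.ht D.htA (Or.inl D.ht2)).1

theorem mem_Qh_of_comm {x y : G} (hx : x ∈ (D.S : Subgroup G)) (hxA : x ∉ D.A)
    (hxx : x * x = 1 ∨ x * x = D.a) (hy : y ∈ D.H) (hodd : Odd (orderOf y)) (hyx : y * x = x * y) :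
    y ∈ D.Qh :=
  (D.completion_aux hx hxA hxx).2 y hy hodd hyx

end Data

end CfsgLib.AltEightThree
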