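import Cfsg.Agent.Lib.AltEightThree.Data

/-!
Cores of subgroups controlled by the normaliser of the subgroup of order sixteen.
-/

set_option autoImplicit false

namespace CfsgLib.AltEightThree

open Subgroup CfsgLib.TwoGroups.FT

theorem eq_one_of_odd_two {M : Type*} [Monoid M] {x : M} (hodd : Odd (orderOf x)) (h : x ^ 2 = 1) :
    x = 1 := by
  rw [← orderOf_eq_one_iff]
  rcases (Nat.dvd_prime Nat.prime_two).1 (orderOf_dvd_of_pow_eq_one h) with h | h
  · exact h
  · rw [h] at hodd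
    exact absurd hodd (by decide)

namespace Data

variable {G : Type*} [Group G] (D : Data G)

/-- A permutation attached to an element of odd order has odd order. -/
theorem odd_φ {n : ↥(normalizer (D.A : Set G))} (h : Odd (orderOf (n : G))) :
    Odd (orderOf (D.φ n)) :=
  (show Odd (orderOf n) by rwa [← Subgroup.orderOf_coe]).of_dvd_nat (orderOf_map_dvd _ _)

theorem cent_le_normalizer : centralizer (D.A : Set G) ≤ normalizer (D.A : Set G) := fun x hx =>
  mem_normalizer_of_cj (cj_eq_of_commute fun u hu => by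
    rw [← mem_centralizer_iff.1 hx u hu, mul_inv_cancel_right])

theorem conj_cent (n : ↥(normalizer (D.A : Set G))) {x : G} (hx : x ∈ centralizer (D.A : Set G)) :
    (n : G) * x * (n : G)⁻¹ ∈ centralizer (D.A : Set G) := by
  refine mem_centralizer_iff.2 fun u hu => ?_
  have h := mem_centralizer_iff.1 hx ((n : G)⁻¹ * u * n)
    ((mem_normalizer_iff''.1 n.2 u).1 hu)
  calc u * (↑n * x * (↑n)⁻¹) = ↑n * (((n : G)⁻¹ * u * ↑n) * x) * (↑n)⁻¹ := by group
    _ = ↑n * (x * ((n : G)⁻¹ * u * ↑n)) * (↑n)⁻¹ := by rw [h]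
    _ = _ := by group

variable [Finite G]

/-- The elements of odd order centralising `A` lie in the core of a controlled subgroup. -/
theorem cent_le_core {K : Subgroup G} (hK : D.Ctl K) (hC : centralizer (D.A : Set G) ≤ K) {x : G}
    (hx : x ∈ centralizer (D.A : Set G)) (hodd : Odd (orderOf x)) : x ∈ core K := by
  obtain ⟨R, hR, hRo, hRm⟩ := D.cent_odd
  have hRK : R ≤ K := hR.trans hC
  have hn : ∀ k ∈ K, ∀ r ∈ core K ⊔ R, k * r * k⁻¹ ∈ core K ⊔ R := by
    intro k hk r hr
    obtain ⟨u, hu, w, hw, rfl⟩ := exists_of_mem_sup (fun l hl c hc => conj_core (hRK hl) hc) hr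
    rw [show k * (u * w) * k⁻¹ = k * u * k⁻¹ * (k * w * k⁻¹) by group]
    refine mul_mem (mem_sup_left (conj_core hk hu)) ?_
    obtain ⟨o, ho, n, hnK, rfl⟩ := hK k hk
    have h1 : (n : G) * w * (n : G)⁻¹ ∈ R := by
      refine hRm _ (D.conj_cent n (hR hw)) ?_
      rw [show (n : G) * w * (n : G)⁻¹ = MulAut.conj (n : G) w from rfl, MulEquiv.orderOf_eq]
      exact odd_orderOf_of_mem hRo hw
    rw [show o * (n : G) * w * (o * (n : G))⁻¹ = o * ((n : G) * w * (n : G)⁻¹) * o⁻¹ by group]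
    exact mul_mem (mul_mem (mem_sup_left ho) (mem_sup_right h1)) (inv_mem (mem_sup_left ho))
  have hle : core K ⊔ R ≤ core K :=
    le_core (sup_le (core_le K) hRK)
      (odd_card_sup (odd_core K) hRo (fun l hl c hc => conj_core (hRK hl) hc)) hn
  exact hle (mem_sup_right (hRm x hx hodd))

/-- Elements of odd order when the normaliser induces only involutions. -/
theorem mem_core_of_involutory {K : Subgroup G} (hK : D.Ctl K)
    (hC : centralizer (D.A : Set G) ≤ K)
    (hφ : ∀ n : ↥(normalizer (D.A : Set G)), (n : G) ∈ K → Odd (orderOf (D.φ n)) → D.φ n = 1)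
    {x : G} (hx : x ∈ K) (hodd : Odd (orderOf x)) : x ∈ core K := by
  obtain ⟨o, ho, n, hnK, rfl⟩ := hK x hx
  refine mem_of_odd_mul ho (fun u hu => conj_core hnK hu) hodd fun k hk => ?_
  have h1 : D.φ (n ^ k) = 1 := hφ _ (by push_cast; exact pow_mem hnK k) (D.odd_φ (by push_cast; exact hk))
  exact D.cent_le_core hK hC (D.mem_centralizer_A (by
    have := (D.φ_one (n ^ k)).1 h1
    simpa using this)) hk

/-- A subgroup of odd order normalised by `A` of a controlled subgroup lies in the core. -/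
theorem le_core_of_invariant {K : Subgroup G} (hK : D.Ctl K) (hA : D.A ≤ K)
    (hC : centralizer (D.A : Set G) ≤ K) {X : Subgroup G} (hX : X ≤ K) (hodd : Odd (Nat.card X))
    (hinv : ∀ u ∈ D.A, ∀ y ∈ X, u * y * u⁻¹ ∈ X) : X ≤ core K := by
  intro x hx
  obtain ⟨o, ho, n, hnK, rfl⟩ := hK x (hX hx)
  have hcomm : ∀ u ∈ D.A, (n : G) * u = u * n := by
    intro u hu
    have hy : u * (o * n) * u⁻¹ * (o * (n : G))⁻¹ ∈ X := mul_mem (hinv u hu _ hx) (inv_mem hx)
    set β := u * ((n : G) * u⁻¹ * (n : G)⁻¹) with hβ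
    have hnu : (n : G) * u⁻¹ * (n : G)⁻¹ ∈ D.A := (mem_normalizer_iff.1 n.2 _).1 (inv_mem hu)
    have hβA : β ∈ D.A := mul_mem hu hnu
    have hui : u⁻¹ = u := inv_eq_of_mul_eq_one_right (D.sq_eq_one hu)
    have e : u * (o * n) * u⁻¹ * (o * (n : G))⁻¹ =
        u * o * u⁻¹ * (β * o⁻¹ * β⁻¹) * β := by
      rw [hβ]; group
    have hr : u * o * u⁻¹ * (β * o⁻¹ * β⁻¹) ∈ core K :=
      mul_mem (conj_core (hA hu) ho) (conj_core (hA hβA) (inv_mem ho))
    have h1 : u * o * u⁻¹ * (β * o⁻¹ * β⁻¹) * β ∈ core K := by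
      refine mem_of_odd_mul hr (fun w hw => conj_core (hA hβA) hw) ?_ fun k hk => ?_
      · rw [← e]; exact odd_orderOf_of_mem hodd hy
      · rw [eq_one_of_odd_of_twoGroup D.isPGroup_A (pow_mem hβA k) hk]; exact one_mem _
    have hβ1 : β = 1 := eq_one_of_odd_of_twoGroup D.isPGroup_A hβA
      (odd_orderOf_of_mem (odd_core K) ((mul_mem_cancel_left hr).1 h1))
    have h2 : (n : G) * u * (n : G)⁻¹ = u := by
      have := eq_inv_of_mul_eq_one_right hβ1
      rwa [hui] at this
    exact mul_inv_eq_iff_eq_mul.1 h2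
  refine mem_of_odd_mul ho (fun u hu => conj_core hnK hu) (odd_orderOf_of_mem hodd hx) fun k hk => ?_
  exact D.cent_le_core hK hC (pow_mem (D.mem_centralizer_A hcomm) k) hk

end Data

end CfsgLib.AltEightThree
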