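import Cfsg.Agent.Lib.AltEightThree.Nilp

/-!
An elementary abelian subgroup of order sixteen with the permutation action of `A₅`, strongly
closed in a Sylow 2-subgroup: elementary consequences.
-/

set_option autoImplicit false

namespace CfsgLib.AltEightThree

open Subgroup CfsgLib.TwoGroups.FT
open scoped symmDiff

/-- The configuration. -/
structure Data (G : Type*) [Group G] where
  /-- The Sylow subgroup. -/
  S : Sylow 2 G
  /-- The subgroup of order sixteen. -/
  A : Subgroup G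
  /-- The action of the normaliser. -/
  φ : ↥(normalizer (A : Set G)) →* Equiv.Perm (Fin 5)
  /-- The elements, as subsets modulo complement. -/
  val : Finset (Fin 5) → G
  /-- An involution outside. -/
  t : G
  hSN : (S : Subgroup G) ≤ normalizer (A : Set G)
  hAS : A ≤ (S : Subgroup G)
  sign_φ : ∀ n : ↥(normalizer (A : Set G)), Equiv.Perm.sign (φ n) = 1
  φ_surj : ∀ π, Equiv.Perm.sign π = 1 → ∃ n, φ n = π
  φ_one : ∀ n : ↥(normalizer (A : Set G)), φ n = 1 ↔ ∀ x ∈ A, (n : G) * x = x * n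
  φ_S : ∀ n : ↥(normalizer (A : Set G)), (n : G) ∈ (S : Subgroup G) → φ n 4 = 4
  val_mem : ∀ s, val s ∈ A
  val_mul : ∀ s u, val s * val u = val (s ∆ u)
  val_eq_one : ∀ s, val s = 1 ↔ s = ∅ ∨ s = Finset.univ
  val_surj : ∀ x ∈ A, ∃ s, val s = x
  val_conj : ∀ (n : ↥(normalizer (A : Set G))) (s : Finset (Fin 5)), (n : G) * val s * (n : G)⁻¹ = val (s.image (φ n))
  cent_two : ∀ y : G, (∀ x ∈ A, y * x = x * y) → (∃ j : ℕ, y ^ 2 ^ j = 1) → y ∈ A
  cent_odd : OddClosed (centralizer (A : Set G))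
  closed : Closed A
  ht : t ∈ (S : Subgroup G)
  htA : t ∉ A
  ht2 : t * t = 1
  not_conj : ¬ IsConj (val {4}) (val {0, 1})

theorem symmDiff_cases : ∀ s u : Finset (Fin 5),
    (s ∆ u = ∅ ∨ s ∆ u = Finset.univ) ↔ (u = s ∨ u = sᶜ) := by decide +kernel

theorem symmDiff_compl_univ : ∀ s : Finset (Fin 5), s ∆ Finset.univ = sᶜ := by decide +kernel

namespace Data

variable {G : Type*} [Group G] (D : Data G)

/-- The element centralised by the Sylow subgroup. -/
def a : G := D.val {4}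

/-- A pair. -/
def c : G := D.val {0, 1}

/-- Elements `val s` for pairs `s` avoiding the fixed point. -/
def IsPair (x : G) : Prop := ∃ s : Finset (Fin 5), s.card = 2 ∧ 4 ∉ s ∧ x = D.val s

/-- Conjugate to an element of `A`. -/
def AT (x : G) : Prop := ∃ g : G, g * x * g⁻¹ ∈ D.A

theorem val_empty : D.val ∅ = 1 := (D.val_eq_one ∅).2 (Or.inl rfl)

theorem val_sq (s : Finset (Fin 5)) : D.val s * D.val s = 1 := by
  rw [D.val_mul, symmDiff_self]
  exact D.val_empty

theorem val_inv (s : Finset (Fin 5)) : (D.val s)⁻¹ = D.val s :=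
  inv_eq_of_mul_eq_one_right (D.val_sq s)

theorem val_eq_iff (s u : Finset (Fin 5)) : D.val s = D.val u ↔ u = s ∨ u = sᶜ := by
  rw [← symmDiff_cases, ← D.val_eq_one, ← D.val_mul]
  constructor
  · intro h; rw [h]; exact D.val_sq u
  · intro h
    rw [← D.val_inv u]
    exact eq_inv_of_mul_eq_one_left h

theorem val_compl (s : Finset (Fin 5)) : D.val sᶜ = D.val s :=
  ((D.val_eq_iff s sᶜ).2 (Or.inr rfl)).symm

theorem sq_eq_one {x : G} (hx : x ∈ D.A) : x * x = 1 := by
  obtain ⟨s, rfl⟩ := D.val_surj x hx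
  exact D.val_sq s

theorem comm {x y : G} (hx : x ∈ D.A) (hy : y ∈ D.A) : x * y = y * x := by
  obtain ⟨s, rfl⟩ := D.val_surj x hx
  obtain ⟨u, rfl⟩ := D.val_surj y hy
  rw [D.val_mul, D.val_mul, symmDiff_comm]

theorem isPGroup_A : IsPGroup 2 D.A := D.S.isPGroup'.to_le D.hAS

theorem le_normalizer_A : D.A ≤ normalizer (D.A : Set G) := le_normalizer

theorem a_mem : D.a ∈ D.A := D.val_mem _

theorem c_mem : D.c ∈ D.A := D.val_mem _

theorem pair_mem {x : G} (h : D.IsPair x) : x ∈ D.A := by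
  obtain ⟨s, -, -, rfl⟩ := h
  exact D.val_mem s

theorem isPair_c : D.IsPair D.c := ⟨{0, 1}, rfl, by decide, rfl⟩

theorem a_ne_one : D.a ≠ 1 := by
  intro h
  rcases (D.val_eq_one _).1 h with h | h <;> exact absurd h (by decide)

theorem orderOf_a : orderOf D.a = 2 := by
  haveI : Fact (Nat.Prime 2) := ⟨Nat.prime_two⟩
  exact orderOf_eq_prime (by rw [pow_two]; exact D.val_sq _) D.a_ne_one

theorem orderOf_of_mem {x : G} (hx : x ∈ D.A) (h1 : x ≠ 1) : orderOf x = 2 := by
  haveI : Fact (Nat.Prime 2) := ⟨Nat.prime_two⟩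
  exact orderOf_eq_prime (by rw [pow_two]; exact D.sq_eq_one hx) h1

/-- The permutation of an element of the normaliser commuting with `val s`. -/
theorem image_of_commute (n : ↥(normalizer (D.A : Set G))) {s : Finset (Fin 5)}
    (h : (n : G) * D.val s = D.val s * n) : s.image (D.φ n) = s ∨ s.image (D.φ n) = sᶜ := by
  rw [← D.val_eq_iff s]
  exact ((D.val_conj n s).symm.trans (by rw [h, mul_inv_cancel_right])).symm

theorem commute_of_image (n : ↥(normalizer (D.A : Set G))) {s : Finset (Fin 5)}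
    (h : s.image (D.φ n) = s ∨ s.image (D.φ n) = sᶜ) : (n : G) * D.val s = D.val s * n := by
  rw [← D.val_eq_iff s, ← D.val_conj n s] at h
  exact (mul_inv_eq_iff_eq_mul.1 h.symm)

theorem fix_four_iff (n : ↥(normalizer (D.A : Set G))) :
    (n : G) * D.a = D.a * n ↔ D.φ n 4 = 4 := by
  constructor
  · intro h
    rcases D.image_of_commute n h with h | h <;> rw [Finset.image_singleton] at h
    · exact Finset.singleton_inj.1 h
    · exact absurd (congrArg Finset.card h) (by rw [Finset.card_singleton]; decide)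
  · exact fun h => D.commute_of_image n (Or.inl (by rw [Finset.image_singleton, h]))

theorem S_comm_a {x : G} (hx : x ∈ (D.S : Subgroup G)) : x * D.a = D.a * x :=
  (D.fix_four_iff ⟨x, D.hSN hx⟩).2 (D.φ_S _ hx)

theorem mem_centralizer_A {x : G} (h : ∀ y ∈ D.A, x * y = y * x) :
    x ∈ centralizer (D.A : Set G) :=
  mem_centralizer_iff.2 fun y hy => (h y hy).symm

theorem mem_A_of_φ_one {n : ↥(normalizer (D.A : Set G))} (hn : (n : G) ∈ (D.S : Subgroup G))
    (h : D.φ n = 1) : (n : G) ∈ D.A := by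
  obtain ⟨j, hj⟩ := D.S.isPGroup' ⟨n, hn⟩
  exact D.cent_two _ ((D.φ_one n).1 h) ⟨j, congrArg Subtype.val hj⟩

theorem mem_A_of_AT {P : Subgroup G} (hP : IsPGroup 2 P) (hAP : D.A ≤ P) {x : G} (hxP : x ∈ P)
    (hx : D.AT x) : x ∈ D.A := by
  obtain ⟨g, hg⟩ := hx
  have h := D.closed P hP hAP _ hg g⁻¹ (by simpa [mul_assoc] using hxP)
  simpa [mul_assoc] using h

theorem AT_of_mem {x : G} (hx : x ∈ D.A) : D.AT x := ⟨1, by simpa using hx⟩

theorem AT_conj {x : G} (hx : D.AT x) (g : G) : D.AT (g * x * g⁻¹) := by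
  obtain ⟨k, hk⟩ := hx
  exact ⟨k * g⁻¹, by simpa [mul_assoc] using hk⟩

theorem AT_conj_iff (g x : G) : D.AT (g * x * g⁻¹) ↔ D.AT x :=
  ⟨fun h => by simpa [mul_assoc] using D.AT_conj h g⁻¹, fun h => D.AT_conj h g⟩

theorem mem_A_of_AT_S {x : G} (hxS : x ∈ (D.S : Subgroup G)) (hx : D.AT x) : x ∈ D.A :=
  D.mem_A_of_AT D.S.isPGroup' D.hAS hxS hx

theorem not_AT_t : ¬ D.AT D.t := fun h => D.htA (D.mem_A_of_AT_S D.ht h)

variable [Finite G]

theorem control {K : Subgroup G} (hAK : D.A ≤ K) {x g : G} (hg : g ∈ K) (hx : x ∈ D.A)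
    (hy : g * x * g⁻¹ ∈ D.A) :
    ∃ n : ↥(normalizer (D.A : Set G)), (n : G) ∈ K ∧ (n : G) * x * (n : G)⁻¹ = g * x * g⁻¹ := by
  obtain ⟨n, hnK, hn, h⟩ := D.closed.control D.isPGroup_A (fun x hx y hy => D.comm hx hy) hAK hg hx hy
  exact ⟨⟨n, hn⟩, hnK, h⟩

/-- Two commuting conjugates of elements of `A` have their product conjugate into `A`. -/
theorem AT_mul {x y : G} (hx : D.AT x) (hy : D.AT y) (hxy : x * y = y * x) : D.AT (x * y) := by
  haveI : Fact (Nat.Prime 2) := ⟨Nat.prime_two⟩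
  have hsq : ∀ z, D.AT z → z * z = 1 := by
    rintro z ⟨g, hg⟩
    have h : g * z * g⁻¹ * (g * z * g⁻¹) = 1 := D.sq_eq_one hg
    rw [show g * z * g⁻¹ * (g * z * g⁻¹) = g * (z * z) * g⁻¹ by group, conj_eq_one_iff] at h
    exact h
  have hP : IsPGroup 2 (closure ({x, y} : Set G)) := by
    intro z
    refine ⟨1, Subtype.ext ?_⟩
    have key : ∀ w ∈ closure ({x, y} : Set G), w * w = 1 ∧ w * x = x * w ∧ w * y = y * w := by
      intro w hw
      induction hw using closure_induction with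
      | mem w hw =>
        rcases hw with rfl | rfl
        · exact ⟨hsq _ hx, rfl, hxy⟩
        · exact ⟨hsq _ hy, hxy.symm, rfl⟩
      | one => simp
      | mul u w hu hw ihu ihw =>
        have huw : u * w = w * u := by
          clear ihw
          induction hw using closure_induction with
          | mem w hw => rcases hw with rfl | rfl <;> [exact ihu.2.1; exact ihu.2.2]
          | one => simp
          | mul p q _ _ hp hq => rw [← mul_assoc, hp, mul_assoc, hq, mul_assoc]
          | inv p _ hp => exact (Commute.inv_right hp)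
        refine ⟨?_, ?_, ?_⟩
        · rw [mul_assoc, ← mul_assoc w, ← huw, mul_assoc, ihw.1, mul_one, ihu.1]
        · rw [mul_assoc, ihw.2.1, ← mul_assoc, ihu.2.1, mul_assoc]
        · rw [mul_assoc, ihw.2.2, ← mul_assoc, ihu.2.2, mul_assoc]
      | inv u _ ihu => rw [inv_eq_of_mul_eq_one_right ihu.1]; exact ihu
    simp only [pow_one, pow_two, Subgroup.coe_mul, OneMemClass.coe_one]
    exact (key z z.2).1
  obtain ⟨g, hg⟩ := CfsgLib.Involutions.exists_conj_le_sylow hP D.S
  have hx' := D.mem_A_of_AT_S (hg x (subset_closure (by simp))) (D.AT_conj hx g)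
  have hy' := D.mem_A_of_AT_S (hg y (subset_closure (by simp))) (D.AT_conj hy g)
  exact ⟨g, by rw [show g * (x * y) * g⁻¹ = g * x * g⁻¹ * (g * y * g⁻¹) by group]; exact mul_mem hx' hy'⟩

/-- `K` is the product of its core and a part normalising `A`. -/
def Ctl (K : Subgroup G) : Prop :=
  ∀ g ∈ K, ∃ o ∈ core K, ∃ n : ↥(normalizer (D.A : Set G)), (n : G) ∈ K ∧ g = o * n

end Data

end CfsgLib.AltEightThree
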