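import Cfsg.Agent.Lib.AltEightThree.CentA

/-!
The centralisers of all involutions of `A`, the completion of their cores, and normality of
`A O(G)`.
-/

set_option autoImplicit false

namespace CfsgLib.AltEightThree

open Subgroup CfsgLib.TwoGroups.FT
open scoped symmDiff

theorem even_to_point : ∀ i : Fin 5, ∃ π : Equiv.Perm (Fin 5),
    Equiv.Perm.sign π = 1 ∧ π 4 = i := by decide +kernel

theorem swap_pair : ∃ π : Equiv.Perm (Fin 5), Equiv.Perm.sign π = 1 ∧
    ({0, 1} : Finset (Fin 5)).image π = {0, 1} ∧ π 0 = 1 ∧ π 1 = 0 := by decide +kernel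

theorem all_classes : ∀ s : Finset (Fin 5), s ≠ ∅ → s ≠ Finset.univ →
    ∃ π : Equiv.Perm (Fin 5), Equiv.Perm.sign π = 1 ∧
      ((({4} : Finset (Fin 5)).image π = s ∨ ({4} : Finset (Fin 5)).image π = sᶜ) ∨
        (({0, 1} : Finset (Fin 5)).image π = s ∨ ({0, 1} : Finset (Fin 5)).image π = sᶜ)) := by
  decide +kernel

theorem fix_pair_point : ∀ π : Equiv.Perm (Fin 5), Equiv.Perm.sign π = 1 →
    (({0, 1} : Finset (Fin 5)).image π = {0, 1} ∨ ({0, 1} : Finset (Fin 5)).image π = {0, 1}ᶜ) →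
    π 0 = 0 ∨ π 0 = 1 := by decide +kernel

/-- Eight sets representing different elements. -/
def repEight : Fin 8 → Finset (Fin 5) := ![∅, {0}, {1}, {2}, {0, 1}, {0, 2}, {1, 2}, {0, 1, 2}]

theorem repEight_inj : ∀ i j, (repEight j = repEight i ∨ repEight j = (repEight i)ᶜ) → i = j := by
  decide +kernel

namespace Data

variable {G : Type*} [Group G] (D : Data G)

theorem A_le_cent {x : G} (hx : x ∈ D.A) : D.A ≤ centralizer {x} := fun _ hu =>
  mem_centralizer_singleton_iff.2 (D.comm hu hx)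

theorem cent_le_cent {x : G} (hx : x ∈ D.A) : centralizer (D.A : Set G) ≤ centralizer {x} :=
  fun _ hu => mem_centralizer_singleton_iff.2 (mem_centralizer_iff.1 hu x hx).symm

theorem mem_cent_conj (n : ↥(normalizer (D.A : Set G))) (x y : G) :
    y ∈ centralizer ({x} : Set G) ↔
      (n : G) * y * (n : G)⁻¹ ∈ centralizer ({(n : G) * x * (n : G)⁻¹} : Set G) := by
  rw [mem_centralizer_singleton_iff, mem_centralizer_singleton_iff,
    show (n : G) * y * (n : G)⁻¹ * ((n : G) * x * (n : G)⁻¹) = (n : G) * (y * x) * (n : G)⁻¹ by group,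
    show (n : G) * x * (n : G)⁻¹ * ((n : G) * y * (n : G)⁻¹) = (n : G) * (x * y) * (n : G)⁻¹ by group]
  exact ⟨fun h => by rw [h], fun h => mul_left_cancel (mul_right_cancel h)⟩

variable [Finite G]

theorem ctl_conj {x : G} (h : D.Ctl (centralizer {x})) (n : ↥(normalizer (D.A : Set G))) :
    D.Ctl (centralizer {(n : G) * x * (n : G)⁻¹}) := by
  intro g hg
  have h1 : (n : G)⁻¹ * g * n ∈ centralizer ({x} : Set G) := by
    refine (D.mem_cent_conj n x _).2 ?_
    simpa [mul_assoc] using hg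
  obtain ⟨o, ho, k, hk, he⟩ := h _ h1
  refine ⟨(n : G) * o * (n : G)⁻¹, conj_core_mem (n : G) (D.mem_cent_conj n x) ho, n * k * n⁻¹, ?_, ?_⟩
  · simpa using (D.mem_cent_conj n x k).1 hk
  · simp only [Subgroup.coe_mul, InvMemClass.coe_inv]
    calc g = (n : G) * ((n : G)⁻¹ * g * n) * (n : G)⁻¹ := by group
      _ = _ := by rw [he]; group

theorem ctl_point (i : Fin 5) : D.Ctl (centralizer {D.val {i}}) := by
  obtain ⟨π, hπ, hi⟩ := even_to_point i
  obtain ⟨n, hn⟩ := D.φ_surj π hπ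
  have h := D.ctl_conj (x := D.a) D.ctl_H n
  rwa [Data.a, D.val_conj, hn, Finset.image_singleton, hi] at h

theorem c_eq : D.val {0} * D.c = D.val {1} := by
  rw [Data.c, D.val_mul]
  congr 1

theorem c_eq' : D.val {1} * D.c = D.val {0} := by
  rw [Data.c, D.val_mul]
  congr 1

/-- The isolated coset. -/
theorem coset_isolated {g : G} (hg : g ∈ centralizer ({D.c} : Set G))
    (hcomm : g * D.val {0} * g⁻¹ * D.val {0} * (g * D.val {0} * g⁻¹)⁻¹ = D.val {0} ∨
      g * D.val {0} * g⁻¹ * D.val {0} * (g * D.val {0} * g⁻¹)⁻¹ = D.val {1}) :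
    g * D.val {0} * g⁻¹ = D.val {0} ∨ g * D.val {0} * g⁻¹ = D.val {1} := by
  haveI : Fact (Nat.Prime 2) := ⟨Nat.prime_two⟩
  set v := D.val {0} with hv
  set y := g * v * g⁻¹ with hy
  have hvA : v ∈ D.A := D.val_mem _
  have hv2 : orderOf v = 2 := D.orderOf_of_mem hvA fun e => by
    rcases (D.val_eq_one _).1 e with e | e <;> exact absurd e (by decide)
  have hy2 : orderOf y = 2 := by
    rw [hy, show g * v * g⁻¹ = MulAut.conj g v from rfl, MulEquiv.orderOf_eq]
    exact hv2
  have hyAT : D.AT y := D.AT_conj (D.AT_of_mem hvA) g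
  -- they commute
  have hyv : y * v = v * y := by
    rcases hcomm with h | h
    · exact mul_inv_eq_iff_eq_mul.1 h
    · exfalso
      have hsq : (y * v) * (y * v) = D.c := by
        calc (y * v) * (y * v) = y * v * y⁻¹ * v := by
              rw [Involutions.inv_eq_self_of_involution hy2]; group
          _ = D.val {1} * v := by rw [h]
          _ = D.c := by rw [hv, D.val_mul, Data.c]; congr 1 <;> decide
      have h4 : (y * v) ^ 4 = 1 := by
        rw [show (4 : ℕ) = 2 * 2 from rfl, pow_mul, pow_two, pow_two, hsq, D.sq_eq_one D.c_mem]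
      obtain ⟨k, -, hk⟩ := (Nat.dvd_prime_pow Nat.prime_two).1
        (show orderOf (y * v) ∣ 2 ^ 2 from orderOf_dvd_of_pow_eq_one h4)
      obtain ⟨g0, hg0⟩ := CfsgLib.Involutions.exists_conj_le_sylow
        (Involutions.isPGroup_two_closure_pair hy2 hv2 hk) D.S
      have hy' := D.mem_A_of_AT_S (hg0 y (subset_closure (by simp))) (D.AT_conj hyAT g0)
      have hv' := D.mem_A_of_AT_S (hg0 v (subset_closure (by simp))) (D.AT_conj (D.AT_of_mem hvA) g0)
      have h5 : y * v = v * y := by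
        have := D.comm hy' hv'
        rw [show g0 * y * g0⁻¹ * (g0 * v * g0⁻¹) = g0 * (y * v) * g0⁻¹ by group,
          show g0 * v * g0⁻¹ * (g0 * y * g0⁻¹) = g0 * (v * y) * g0⁻¹ by group] at this
        exact mul_left_cancel (mul_right_cancel this)
      rw [mul_inv_eq_iff_eq_mul.2 h5] at h
      rcases (D.val_eq_iff _ _).1 h with h | h <;> exact absurd h (by decide)
  set L := centralizer ({D.c} : Set G) with hL
  set X := L ⊓ centralizer ({v} : Set G) with hX
  have hAX : D.A ≤ X := fun u hu =>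
    ⟨D.A_le_cent D.c_mem hu, D.A_le_cent hvA hu⟩
  have hgL : ∀ u ∈ D.A, g * u * g⁻¹ ∈ L ↔ u ∈ L := fun u _ =>
    ⟨fun h => by simpa [mul_assoc] using L.mul_mem (L.mul_mem (L.inv_mem hg) h) hg,
      fun h => L.mul_mem (L.mul_mem hg h) (L.inv_mem hg)⟩
  have hyX : y ∈ X := ⟨(hgL v hvA).2 (D.A_le_cent D.c_mem hvA), mem_centralizer_singleton_iff.2 hyv⟩
  obtain ⟨P, hP⟩ := (D.isPGroup_A.of_injective (subgroupOfEquivOfLe hAX).toMonoidHom
    (subgroupOfEquivOfLe hAX).injective).exists_le_sylow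
  set P' : Subgroup G := (P : Subgroup X).map X.subtype with hP'
  have hP2 : IsPGroup 2 P' := P.isPGroup'.map X.subtype
  have hAP : D.A ≤ P' := fun a ha => ⟨⟨a, hAX ha⟩, hP (show (⟨a, hAX ha⟩ : X) ∈ D.A.subgroupOf X from ha), rfl⟩
  have hodd : Odd (P'.relIndex X) := by
    have h1 := P.not_dvd_index
    have h2 : P'.relIndex X = (P : Subgroup X).index := by
      rw [hP', ← Subgroup.relIndex_top_right (H := (P : Subgroup X)),
        ← Subgroup.relIndex_map_map_of_injective (H := (P : Subgroup X)) (K := ⊤) (f := X.subtype)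
          X.subtype_injective]
      rw [← MonoidHom.range_eq_map, Subgroup.range_subtype]
    rw [h2, Nat.odd_iff]
    omega
  obtain ⟨k, hk, hle⟩ := exists_conj_into hP2 (map_subtype_le _) hodd
    (Involutions.isPGroup_two_zpowers hy2) ((zpowers_le).2 hyX)
  have hky : k * y * k⁻¹ ∈ D.A :=
    D.mem_A_of_AT hP2 hAP (hle ⟨y, mem_zpowers y, rfl⟩) (D.AT_conj hyAT k)
  have e : k * g * v * (k * g)⁻¹ = k * y * k⁻¹ := by rw [hy]; group
  obtain ⟨n, hn, hne⟩ := D.control (K := L) (D.A_le_cent D.c_mem) (L.mul_mem hk.1 hg) hvA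
    (by rw [e]; exact hky)
  rw [e, hv, D.val_conj, Finset.image_singleton] at hne
  have h01 := fix_pair_point _ (D.sign_φ n) (D.image_of_commute n (mem_centralizer_singleton_iff.1 hn))
  have hkv : k⁻¹ * v * k = v := by
    rw [mul_assoc, ← mem_centralizer_singleton_iff.1 hk.2, inv_mul_cancel_left]
  have hkc : k⁻¹ * D.c * k = D.c := by
    rw [mul_assoc, ← mem_centralizer_singleton_iff.1 hk.1, inv_mul_cancel_left]
  have hy' : y = k⁻¹ * (k * y * k⁻¹) * k := by group
  rcases h01 with h | h <;> rw [h] at hne <;> rw [← hne] at hy'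
  · exact Or.inl (hy'.trans hkv)
  · refine Or.inr (hy'.trans ?_)
    rw [← D.c_eq, show k⁻¹ * (D.val {0} * D.c) * k = k⁻¹ * v * k * (k⁻¹ * D.c * k) by rw [hv]; group,
      hkv, hkc]

/-- The elements of `C(c)` move the coset of `v₀` only by the core. -/
theorem exists_core_coset {g : G} (hg : g ∈ centralizer ({D.c} : Set G)) :
    ∃ o ∈ core (centralizer ({D.c} : Set G)),
      o * g * D.val {0} * (o * g)⁻¹ = D.val {0} ∨ o * g * D.val {0} * (o * g)⁻¹ = D.val {1} := by
  classical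
  haveI hF : Fact (Nat.Prime 2) := ⟨Nat.prime_two⟩
  set L := centralizer ({D.c} : Set G) with hL
  let z : L := ⟨D.c, mem_centralizer_singleton_iff.2 rfl⟩
  haveI hn : (zpowers z).Normal := ⟨fun u hu q => by
    obtain ⟨i, rfl⟩ := mem_zpowers_iff.1 hu
    have hc : Commute q z := Subtype.ext (mem_centralizer_singleton_iff.1 q.2)
    rw [(hc.zpow_right i).eq, mul_inv_cancel_right]
    exact zpow_mem (mem_zpowers z) i⟩
  set π : L →* L ⧸ zpowers z := QuotientGroup.mk' (zpowers z) with hπ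
  have hzz : z * z = 1 := Subtype.ext (D.sq_eq_one D.c_mem)
  have hker : ∀ u : L, π u = 1 ↔ ((u : G) = 1 ∨ (u : G) = D.c) := by
    intro u
    rw [hπ, QuotientGroup.mk'_apply, QuotientGroup.eq_one_iff]
    constructor
    · intro hu
      obtain ⟨i, hi⟩ := mem_zpowers_iff.1 hu
      rcases Int.even_or_odd i with ⟨j, hj⟩ | ⟨j, hj⟩ <;> subst hj
      · rw [← two_mul, zpow_mul, zpow_two, hzz, one_zpow] at hi
        exact Or.inl (congrArg Subtype.val hi).symm
      · rw [zpow_add, zpow_mul, zpow_two, hzz, one_zpow, one_mul, zpow_one] at hi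
        exact Or.inr (congrArg Subtype.val hi).symm
    · rintro (h | h)
      · rw [show u = 1 from Subtype.ext h]
        exact one_mem _
      · rw [show u = z from Subtype.ext h]
        exact mem_zpowers z
  have hsurj : Function.Surjective π := QuotientGroup.mk'_surjective _
  have hcoset : ∀ u w : L, π u = π w → (u : G) = w ∨ (u : G) = (w : G) * D.c := by
    intro u w h
    have h1 : π (w⁻¹ * u) = 1 := by rw [map_mul, map_inv, h, inv_mul_cancel]
    rcases (hker _).1 h1 with h | h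
    · exact Or.inl (inv_mul_eq_one.1 h).symm
    · exact Or.inr (inv_mul_eq_iff_eq_mul.1 h)
  let v : L := ⟨D.val {0}, D.A_le_cent D.c_mem (D.val_mem _)⟩
  have hv1 : π v ≠ 1 := fun h => by
    rcases (hker v).1 h with h | h
    · rcases (D.val_eq_one _).1 h with h | h <;> exact absurd h (by decide)
    · rcases (D.val_eq_iff _ _).1 h with h | h <;> exact absurd h (by decide)
  have hv2 : orderOf (π v) = 2 := by
    refine orderOf_eq_prime ?_ hv1
    rw [pow_two, ← map_mul]
    exact (hker _).2 (Or.inl (D.val_sq _))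
  have hiso : Cfsg.IsIsolatedInvolution (π v) := by
    refine ⟨hv2, fun q hq => ?_⟩
    obtain ⟨q, rfl⟩ := hsurj q
    have h1 : π (q * v * q⁻¹) * π v * (π (q * v * q⁻¹))⁻¹ = π v := by
      rw [map_mul, map_mul, map_inv, mul_inv_eq_iff_eq_mul]
      exact hq.eq.symm
    rw [← map_mul, ← map_inv, ← map_mul] at h1
    have h2 := hcoset _ _ h1
    rw [← map_inv, ← map_mul, ← map_mul]
    rcases D.coset_isolated q.2 (by
        rcases h2 with h | h
        · exact Or.inl h
        · exact Or.inr (h.trans D.c_eq)) with h | h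
    · exact congrArg π (Subtype.ext h)
    · rw [show q * v * q⁻¹ = v * z from Subtype.ext (h.trans D.c_eq.symm), map_mul,
        show π z = 1 from (hker z).2 (Or.inr rfl), mul_one]
  set O := Cfsg.oddCore (L ⧸ zpowers z) with hO
  have hOodd : Odd (Nat.card O) := Nat.coprime_two_right.mp CfsgLib.PCore.pPrimeCore_coprime
  have hz : ∀ q, q * π v * q⁻¹ * (π v)⁻¹ ∈ O := Involutions.zstar _ _ hiso
  -- conjugate back into the group generated by the involution
  set g' : L := ⟨g, hg⟩ with hg'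
  have hmem : π g' * π v * (π g')⁻¹ ∈ zpowers (π v) ⊔ O := by
    rw [show π g' * π v * (π g')⁻¹ = π g' * π v * (π g')⁻¹ * (π v)⁻¹ * π v by group]
    exact mul_mem (mem_sup_right (hz _)) (mem_sup_left (mem_zpowers _))
  have hrel : Odd ((zpowers (π v)).relIndex (zpowers (π v) ⊔ O)) := by
    have h1 := relIndex_mul_relIndex ⊥ (zpowers (π v)) (zpowers (π v) ⊔ O) bot_le le_sup_left
    rw [relIndex_bot_left, relIndex_bot_left] at h1
    have h2 : Nat.card ↥(zpowers (π v) ⊔ O) ∣ Nat.card O * Nat.card (zpowers (π v)) := by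
      rw [sup_comm]; exact CfsgLib.PCore.card_sup_dvd_mul O _
    rw [← h1, mul_comm (Nat.card O)] at h2
    exact hOodd.of_dvd_nat (Nat.dvd_of_mul_dvd_mul_left Nat.card_pos h2)
  obtain ⟨m, hm, hle⟩ := exists_conj_into (Involutions.isPGroup_two_zpowers hv2) le_sup_left hrel
    (Q := zpowers (π g' * π v * (π g')⁻¹))
    (Involutions.isPGroup_two_zpowers (by rw [Involutions.orderOf_conj_eq]; exact hv2))
    ((zpowers_le).2 hmem)
  obtain ⟨w, hw, q, hq, rfl⟩ := Subgroup.mem_sup_of_normal_right.1 hm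
  obtain ⟨i, rfl⟩ := mem_zpowers_iff.1 hw
  obtain ⟨j, hj⟩ := mem_zpowers_iff.1 (hle ⟨_, mem_zpowers _, rfl⟩)
  have hfix : q * π g' * π v * (q * π g')⁻¹ = π v := by
    have hj' : π v ^ j = π v ^ i * (q * π g' * π v * (q * π g')⁻¹) * (π v ^ i)⁻¹ := by
      rw [hj]
      show π v ^ i * q * (π g' * π v * (π g')⁻¹) * (π v ^ i * q)⁻¹ = _
      group
    have h2 : q * π g' * π v * (q * π g')⁻¹ = π v ^ j := by
      have : (π v ^ i)⁻¹ * π v ^ j * π v ^ i = π v ^ j := by group
      rw [← this, hj']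
      group
    rcases Int.even_or_odd j with ⟨k, rfl⟩ | ⟨k, rfl⟩
    · rw [← two_mul, zpow_mul, zpow_two, Involutions.mul_self_eq_one hv2, one_zpow, conj_eq_one_iff] at h2
      exact absurd h2 hv1
    · rw [zpow_add, zpow_mul, zpow_two, Involutions.mul_self_eq_one hv2, one_zpow, one_mul, zpow_one] at h2
      exact h2
  -- lift the core element
  set X := (O.comap π).map L.subtype with hX
  have hXcard : Nat.card X = 2 * Nat.card O := by
    rw [← Nat.card_congr ((O.comap π).equivMapOfInjective L.subtype L.subtype_injective).toEquiv]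
    have h1 := (O.comap π).card_mul_index
    rw [Subgroup.index_comap_of_surjective _ hsurj,
      Subgroup.card_eq_card_quotient_mul_card_subgroup (zpowers z), ← O.card_mul_index,
      Nat.card_zpowers, show orderOf z = 2 by
        rw [← Subgroup.orderOf_coe]; exact D.orderOf_of_mem D.c_mem (D.isPair_ne D.isPair_c).1] at h1
    have h2 : 0 < O.index := Nat.pos_of_ne_zero index_ne_zero_of_finite
    nlinarith
  obtain ⟨R, hR, hRo, hRm⟩ := exists_oddPart hOodd hXcard
  obtain ⟨o, hoo, rfl⟩ := exists_odd_lift π hsurj (q := q) (odd_orderOf_of_mem hOodd hq)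
  have hoR : (o : G) ∈ R := hRm _ ⟨o, hq, rfl⟩ (by rwa [Subgroup.orderOf_coe])
  have hRL : R ≤ core L := by
    refine le_core (hR.trans (map_subtype_le _)) hRo fun k hk r hr => ?_
    obtain ⟨u, hu, rfl⟩ := hR hr
    refine hRm _ ⟨⟨k, hk⟩ * u * ⟨k, hk⟩⁻¹, ?_, rfl⟩ ?_
    · show π _ ∈ O
      rw [map_mul, map_mul, map_inv]
      exact (inferInstance : O.Normal).conj_mem _ hu _
    · rw [show k * (L.subtype u) * k⁻¹ = MulAut.conj k (u : G) from rfl, MulEquiv.orderOf_eq]
      exact odd_orderOf_of_mem hRo hr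
  refine ⟨o, hRL hoR, ?_⟩
  rw [← map_mul, ← map_mul, ← map_inv, ← map_mul] at hfix
  rcases hcoset _ _ hfix with h | h
  · exact Or.inl h
  · exact Or.inr (h.trans D.c_eq)

theorem ctl_c : D.Ctl (centralizer {D.c}) := by
  set L := centralizer ({D.c} : Set G) with hL
  set v := D.val {0} with hv
  set v' := D.val {1} with hv'
  set R := core (centralizer ({v} : Set G)) ⊓ L with hR
  set R' := core (centralizer ({v'} : Set G)) ⊓ L with hR'
  have hA : ∀ {x}, x ∈ D.A → ∀ u ∈ D.A, u ∈ centralizer ({x} : Set G) := fun hx u hu => D.A_le_cent hx hu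
  have hsym : ∀ (i j : Fin 5), D.val {i} * D.c = D.val {j} →
      core (centralizer ({D.val {i}} : Set G)) ⊓ L ≤ core (centralizer ({D.val {j}} : Set G)) := by
    intro i j hij
    refine D.le_core_of_invariant (D.ctl_point j) (D.A_le_cent (D.val_mem _))
      (D.cent_le_cent (D.val_mem _)) ?_ ((odd_core _).of_dvd_nat (card_dvd_of_le inf_le_left)) ?_
    · intro y hy
      rw [← hij]
      exact mem_centralizer_singleton_iff.2 (Commute.mul_right
        (show Commute y (D.val {i}) from mem_centralizer_singleton_iff.1 (core_le _ hy.1))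
        (show Commute y D.c from mem_centralizer_singleton_iff.1 hy.2)).eq
    · intro u hu y hy
      exact ⟨conj_core (hA (D.val_mem _) u hu) hy.1,
        L.mul_mem (L.mul_mem (hA D.c_mem u hu) hy.2) (L.inv_mem (hA D.c_mem u hu))⟩
  obtain ⟨π, hπ, himg, h0, h1⟩ := swap_pair
  obtain ⟨ns, hns⟩ := D.φ_surj π hπ
  have hnsL : (ns : G) ∈ L :=
    mem_centralizer_singleton_iff.2 (D.commute_of_image ns (Or.inl (by rw [hns, himg])))
  have hnsv : (ns : G) * v * (ns : G)⁻¹ = v' := by rw [hv, hv', D.val_conj, hns, Finset.image_singleton, h0]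
  -- the decomposition inside C(v)
  have hdec : ∀ h ∈ L, h * v * h⁻¹ = v → ∃ o ∈ R, ∃ n : ↥(normalizer (D.A : Set G)),
      (n : G) ∈ L ∧ (n : G) ∈ centralizer ({v} : Set G) ∧ h = o * n := by
    intro h hh hhv
    obtain ⟨o, ho, n, hn, rfl⟩ := D.ctl_point 0 h (mem_centralizer_singleton_iff.2 (mul_inv_eq_iff_eq_mul.1 hhv))
    set c' := (n : G) * D.c * (n : G)⁻¹ with hc'
    have hc'A : c' ∈ D.A := (mem_normalizer_iff.1 n.2 _).1 D.c_mem
    have e : o * c' * o⁻¹ = D.c := by
      rw [hc', show o * ((n : G) * D.c * (n : G)⁻¹) * o⁻¹ = o * n * D.c * (o * n)⁻¹ by group,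
        mem_centralizer_singleton_iff.1 hh, mul_inv_cancel_right]
    have h2 : o * (c' * o⁻¹ * c'⁻¹) ∈ core (centralizer ({v} : Set G)) :=
      mul_mem ho (conj_core (hA (D.val_mem _) c' hc'A) (inv_mem ho))
    rw [show o * (c' * o⁻¹ * c'⁻¹) = o * c' * o⁻¹ * c'⁻¹ by group, e] at h2
    have h3 : D.c * c'⁻¹ = 1 := eq_one_of_odd_of_twoGroup D.isPGroup_A
      (mul_mem D.c_mem (inv_mem hc'A)) (odd_orderOf_of_mem (odd_core _) h2)
    have h4 : c' = D.c := (mul_inv_eq_one.1 h3).symm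
    have hnL : (n : G) ∈ L :=
      mem_centralizer_singleton_iff.2 (mul_inv_eq_iff_eq_mul.1 (hc' ▸ h4))
    refine ⟨o, ⟨ho, ?_⟩, n, hnL, hn, rfl⟩
    have := L.mul_mem hh (L.inv_mem hnL)
    rwa [mul_inv_cancel_right] at this
  -- the decomposition in C(c)
  have hdec' : ∀ g ∈ L, ∃ o ∈ core L, ∃ m : ↥(normalizer (D.A : Set G)), ∃ o' ∈ R,
      ∃ n : ↥(normalizer (D.A : Set G)), (m = 1 ∨ m = ns) ∧ (n : G) ∈ L ∧
      (n : G) ∈ centralizer ({v} : Set G) ∧ g = o * m * o' * n := by
    intro g hg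
    obtain ⟨o, ho, h⟩ := D.exists_core_coset hg
    have hog : o * g ∈ L := L.mul_mem (core_le _ ho) hg
    rcases h with h | h
    · obtain ⟨o', ho', n, hn, hn', e⟩ := hdec _ hog h
      refine ⟨o⁻¹, inv_mem ho, 1, o', ho', n, Or.inl rfl, hn, hn', ?_⟩
      rw [show g = o⁻¹ * (o * g) by group, e]
      simp [mul_assoc]
    · obtain ⟨o', ho', n, hn, hn', e⟩ := hdec ((ns : G)⁻¹ * (o * g)) (L.mul_mem (L.inv_mem hnsL) hog) (by
        rw [show (ns : G)⁻¹ * (o * g) * v * ((ns : G)⁻¹ * (o * g))⁻¹ =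
          (ns : G)⁻¹ * (o * g * v * (o * g)⁻¹) * ns by group, h, ← hv', ← hnsv]
        group)
      refine ⟨o⁻¹, inv_mem ho, ns, o', ho', n, Or.inr rfl, hn, hn', ?_⟩
      rw [show g = o⁻¹ * ((ns : G) * ((ns : G)⁻¹ * (o * g))) by group, e]
      group
  -- the part inside `R` is in the core
  have hRinv : ∀ m : ↥(normalizer (D.A : Set G)), (m = 1 ∨ m = ns) → ∀ r ∈ R,
      (m : G) * r * (m : G)⁻¹ ∈ R := by
    rintro m (rfl | rfl) r hr
    · simpa using hr
    · refine ⟨?_, L.mul_mem (L.mul_mem hnsL hr.2) (L.inv_mem hnsL)⟩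
      have h2 : (m : G) * r * (m : G)⁻¹ ∈ core (centralizer ({v'} : Set G)) :=
        conj_core_mem (m : G) (fun y => hnsv ▸ D.mem_cent_conj m v y) hr.1
      exact hsym 1 0 D.c_eq' ⟨h2, L.mul_mem (L.mul_mem hnsL hr.2) (L.inv_mem hnsL)⟩
  have hRcore : R ≤ core L := by
    have hnormal : ∀ l ∈ R, ∀ c ∈ core L, l * c * l⁻¹ ∈ core L := fun l hl c hc => conj_core hl.2 hc
    refine le_sup_right.trans (le_core (R := core L ⊔ R) (sup_le (core_le _) inf_le_right)
      (odd_card_sup (odd_core L) ((odd_core _).of_dvd_nat (card_dvd_of_le inf_le_left)) hnormal) ?_)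
    intro g hg x hx
    obtain ⟨c, hc, r, hr, rfl⟩ := exists_of_mem_sup hnormal hx
    rw [show g * (c * r) * g⁻¹ = g * c * g⁻¹ * (g * r * g⁻¹) by group]
    refine mul_mem (mem_sup_left (conj_core hg hc)) ?_
    obtain ⟨o, ho, m, o', ho', n, hm, hn, hn', rfl⟩ := hdec' g hg
    have h1 : (n : G) * r * (n : G)⁻¹ ∈ R :=
      ⟨conj_core hn' hr.1, L.mul_mem (L.mul_mem hn hr.2) (L.inv_mem hn)⟩
    have h2 := hRinv m hm _ (R.mul_mem (R.mul_mem ho' h1) (R.inv_mem ho'))
    rw [show o * (m : G) * o' * n * r * (o * (m : G) * o' * n)⁻¹ =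
      o * ((m : G) * (o' * ((n : G) * r * (n : G)⁻¹) * o'⁻¹) * (m : G)⁻¹) * o⁻¹ by group]
    exact mul_mem (mul_mem (mem_sup_left ho) (mem_sup_right h2)) (inv_mem (mem_sup_left ho))
  intro g hg
  obtain ⟨o, ho, m, o', ho', n, hm, hn, hn', rfl⟩ := hdec' g hg
  refine ⟨o * ((m : G) * o' * (m : G)⁻¹), mul_mem ho (hRcore (hRinv m hm o' ho')), m * n, ?_, ?_⟩
  · rcases hm with rfl | rfl
    · simpa using hn
    · simpa using L.mul_mem hnsL hn
  · simp only [Subgroup.coe_mul]
    group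

/-- All centralisers of involutions of `A` are controlled. -/
theorem ctl_all {x : G} (hx : x ∈ D.A) (hx1 : x ≠ 1) : D.Ctl (centralizer {x}) := by
  obtain ⟨s, rfl⟩ := D.val_surj x hx
  obtain ⟨π, hπ, h⟩ := all_classes s (fun e => hx1 (by rw [e]; exact D.val_empty))
    (fun e => hx1 ((D.val_eq_one _).2 (Or.inr e)))
  obtain ⟨n, hn⟩ := D.φ_surj π hπ
  rcases h with h | h
  · have h' := D.ctl_conj (x := D.a) D.ctl_H n
    rw [Data.a, D.val_conj, hn] at h'
    rcases h with e | e <;> rw [e] at h'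
    · exact h'
    · rwa [D.val_compl] at h'
  · have h' := D.ctl_conj (x := D.c) D.ctl_c n
    rw [Data.c, D.val_conj, hn] at h'
    rcases h with e | e <;> rw [e] at h'
    · exact h'
    · rwa [D.val_compl] at h'

/-- `A O(G)` is normal. -/
theorem normal_sup_oddCore : (D.A ⊔ Cfsg.oddCore G).Normal := by
  classical
  haveI hF : Fact (Nat.Prime 2) := ⟨Nat.prime_two⟩
  have hcard : 2 ^ 3 ≤ Nat.card D.A := by
    have h := Nat.card_le_card_of_injective
      (fun i : Fin 8 => (⟨D.val (repEight i), D.val_mem _⟩ : D.A))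
      (fun i j h => repEight_inj i j ((D.val_eq_iff _ _).1 (congrArg Subtype.val h)))
    simpa using h
  obtain ⟨hodd, hC⟩ := Cfsg.Agent.S0217.result (p := 2) D.A (fun a ha b hb => D.comm ha hb)
    (fun a ha => by rw [pow_two]; exact D.sq_eq_one ha) hcard
    (fun x => core (centralizer ({x} : Set G)))
    (fun a _ _ => core_le _)
    (fun a _ _ => by
      have := odd_core (centralizer ({a} : Set G))
      rw [Nat.odd_iff] at this
      omega)
    (fun a ha _ b hb x hx => conj_core (D.A_le_cent ha hb) hx)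
    (fun a _ _ => Cfsg.Agent.S0205.result (odd_core _))
    (fun a ha _ b hb hb1 => by
      refine D.le_core_of_invariant (D.ctl_all hb hb1) (D.A_le_cent hb) (D.cent_le_cent hb)
        inf_le_right ((odd_core _).of_dvd_nat (card_dvd_of_le inf_le_left)) ?_
      intro u hu y hy
      exact ⟨conj_core (D.A_le_cent ha hu) hy.1,
        Subgroup.mul_mem _ (Subgroup.mul_mem _ (D.A_le_cent hb hu) hy.2)
          (Subgroup.inv_mem _ (D.A_le_cent hb hu))⟩)
  set Q := ⨆ a : {a : G // a ∈ D.A ∧ a ≠ 1}, core (centralizer ({(a : G)} : Set G)) with hQ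
  have hQodd : Odd (Nat.card Q) := by
    rw [Nat.odd_iff]
    omega
  have hQn : ∀ n ∈ normalizer (D.A : Set G), ∀ q ∈ Q, n * q * n⁻¹ ∈ Q := by
    intro n hn q hq
    have h : Q.map (MulAut.conj n).toMonoidHom ≤ Q := by
      rw [hQ, Subgroup.map_iSup]
      refine iSup_le fun a => ?_
      rintro _ ⟨x, hx, rfl⟩
      refine le_iSup (fun a : {a : G // a ∈ D.A ∧ a ≠ 1} => core (centralizer ({(a : G)} : Set G)))
        ⟨n * a * n⁻¹, (mem_normalizer_iff.1 hn _).1 a.2.1, fun e => a.2.2 (conj_eq_one_iff.1 e)⟩ ?_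
      exact conj_core_mem n (D.mem_cent_conj ⟨n, hn⟩ a) hx
    exact h ⟨q, hq, rfl⟩
  set M := Q ⊔ normalizer (D.A : Set G) with hM
  have hCM : ∀ x ∈ D.A, x ≠ 1 → centralizer ({x} : Set G) ≤ M := by
    intro x hx hx1 g hg
    obtain ⟨o, ho, n, -, rfl⟩ := D.ctl_all hx hx1 g hg
    exact mul_mem (mem_sup_left (le_iSup (fun a : {a : G // a ∈ D.A ∧ a ≠ 1} =>
      core (centralizer ({(a : G)} : Set G))) ⟨x, hx, hx1⟩ ho)) (mem_sup_right n.2)
  have hconjS : ∀ z ∈ M, z * z = 1 → ∃ m ∈ M, m * z * m⁻¹ ∈ (D.S : Subgroup G) := by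
    intro z hz hzz
    have hSM : (D.S : Subgroup G) ≤ M := D.hSN.trans le_sup_right
    obtain ⟨m, hm, hle⟩ := exists_conj_into D.S.isPGroup' hSM (sylow_relIndex_odd D.S hSM)
      (Q := zpowers z)
      (fun ⟨w, hw⟩ => by
        obtain ⟨i, rfl⟩ := mem_zpowers_iff.1 hw
        refine ⟨1, Subtype.ext ?_⟩
        show (z ^ i) ^ 2 ^ 1 = 1
        rw [pow_one, ← zpow_natCast, ← zpow_mul, mul_comm, zpow_mul, Nat.cast_ofNat, zpow_two, hzz, one_zpow])
      ((zpowers_le).2 hz)
    exact ⟨m, hm, hle ⟨z, mem_zpowers z, rfl⟩⟩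
  have hATM : ∀ z ∈ M, D.AT z → z ≠ 1 → z * z = 1 → centralizer ({z} : Set G) ≤ M := by
    intro z hz hzAT hz1 hzz g hg
    obtain ⟨m, hm, hmS⟩ := hconjS z hz hzz
    have h1 := hCM _ (D.mem_A_of_AT_S hmS (D.AT_conj hzAT m)) (fun e => hz1 (conj_eq_one_iff.1 e))
      (show m * g * m⁻¹ ∈ centralizer ({m * z * m⁻¹} : Set G) by
        refine mem_centralizer_singleton_iff.2 ?_
        rw [show m * g * m⁻¹ * (m * z * m⁻¹) = m * (g * z) * m⁻¹ by group,
          mem_centralizer_singleton_iff.1 hg]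
        group)
    simpa [mul_assoc] using mul_mem (mul_mem (inv_mem hm) h1) hm
  -- the whole group
  have hall : ∀ g : G, g ∈ M := by
    intro g
    set r := g * D.c * g⁻¹ with hr
    have hr2 : orderOf r = 2 := by
      rw [hr, Involutions.orderOf_conj_eq]
      exact D.orderOf_of_mem D.c_mem (D.isPair_ne D.isPair_c).1
    have hp2 : orderOf D.a = 2 := D.orderOf_a
    have hrAT : D.AT r := D.AT_conj (D.AT_of_mem D.c_mem) g
    have heven : Even (orderOf (D.a * r)) := Involutions.even_order_of_not_isConj hp2 hr2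
      fun h => D.not_conj (h.trans (isConj_iff.2 ⟨g, hr.symm⟩).symm)
    obtain ⟨hz2, hzp, hzr⟩ := Involutions.central_involution hp2 hr2 heven
    set m := orderOf (D.a * r) / 2 with hm
    set z := (D.a * r) ^ m with hz
    have hpz : D.AT (D.a * z) := by
      rcases Nat.even_or_odd' m with ⟨k, hk | hk⟩
      · set w := (D.a * r) ^ k with hw
        have h1 : D.a * w * D.a⁻¹ = w⁻¹ := Involutions.inverts_pow (Involutions.left_inverts_prod hp2 hr2) k
        have h2 : D.a * z = w⁻¹ * D.a * w := by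
          rw [hz, hk, two_mul, pow_add, ← hw, ← h1]
          group
        rw [h2]
        simpa using D.AT_conj (D.AT_of_mem D.a_mem) w⁻¹
      · set w := (D.a * r) ^ k with hw
        have h1 : r * w * r⁻¹ = w⁻¹ := Involutions.inverts_pow (Involutions.right_inverts_prod hp2 hr2) k
        have h2 : D.a * z = w⁻¹ * r * w := by
          calc D.a * z = D.a * (D.a * r * (w * w)) := by
                rw [hw, ← pow_add, ← two_mul, ← pow_succ', ← hk]
            _ = D.a * D.a * (r * (w * w)) := by simp only [mul_assoc]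
            _ = r * (w * w) := by rw [D.a_mul_a, one_mul]
            _ = r * w * r⁻¹ * r * w := by group
            _ = w⁻¹ * r * w := by rw [h1]
        rw [h2]
        simpa using D.AT_conj hrAT w⁻¹
    have hzAT : D.AT z := by
      have := D.AT_mul (D.AT_of_mem D.a_mem) hpz
        (by rw [mul_assoc, hzp.eq])
      rwa [← mul_assoc, D.a_mul_a, one_mul] at this
    have hzM : z ∈ M := hCM _ D.a_mem D.a_ne_one (mem_centralizer_singleton_iff.2 hzp.eq)
    have hrM : r ∈ M := hATM z hzM hzAT (Involutions.ne_one_of_involution hz2)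
      (Involutions.mul_self_eq_one hz2) (mem_centralizer_singleton_iff.2 hzr.eq.symm)
    obtain ⟨k, hk, hkS⟩ := hconjS r hrM (Involutions.mul_self_eq_one hr2)
    rw [show k * r * k⁻¹ = k * g * D.c * (k * g)⁻¹ by rw [hr]; group] at hkS
    obtain ⟨n, -, hne⟩ := D.control (K := ⊤) le_top (mem_top (k * g)) D.c_mem
      (D.mem_A_of_AT_S hkS (D.AT_conj (D.AT_of_mem D.c_mem) _))
    have h1 : (n : G)⁻¹ * (k * g) ∈ M := hCM _ D.c_mem (D.isPair_ne D.isPair_c).1 (by
      refine mem_centralizer_singleton_iff.2 (mul_inv_eq_iff_eq_mul.1 ?_)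
      rw [show (n : G)⁻¹ * (k * g) * D.c * ((n : G)⁻¹ * (k * g))⁻¹ =
        (n : G)⁻¹ * (k * g * D.c * (k * g)⁻¹) * n by group, ← hne]
      group)
    simpa using mul_mem (inv_mem hk) (mul_mem (mem_sup_right n.2) h1)
  have hQO : Q ≤ Cfsg.oddCore G := by
    refine CfsgLib.PCore.le_pPrimeCore ⟨fun q hq g => ?_⟩ (Nat.coprime_two_right.mpr hQodd)
    obtain ⟨o, ho, n, hn, rfl⟩ := exists_of_mem_sup hQn (hall g)
    rw [show o * n * q * (o * n)⁻¹ = o * (n * q * n⁻¹) * o⁻¹ by group]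
    exact mul_mem (mul_mem ho (hQn n hn q hq)) (inv_mem ho)
  refine ⟨fun x hx g => ?_⟩
  obtain ⟨u, hu, o, ho, rfl⟩ := Subgroup.mem_sup_of_normal_right.1 hx
  rw [show g * (u * o) * g⁻¹ = g * u * g⁻¹ * (g * o * g⁻¹) by group]
  refine mul_mem ?_ (mem_sup_right ((inferInstance : (Cfsg.oddCore G).Normal).conj_mem o ho g))
  obtain ⟨q, hq, n, hn, rfl⟩ := exists_of_mem_sup hQn (hall g)
  rw [show q * n * u * (q * n)⁻¹ = q * (n * u * n⁻¹) * q⁻¹ by group]
  exact mul_mem (mul_mem (mem_sup_right (hQO hq)) (mem_sup_left ((mem_normalizer_iff.1 hn u).1 hu)))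
    (inv_mem (mem_sup_right (hQO hq)))

end Data

end CfsgLib.AltEightThree
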