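import Cfsg.Agent.Lib.AltEightThree.Core

/-!
Centralisers, inside the centraliser of `a`, of pairs and of elements of the Sylow subgroup
outside `A`.
-/

set_option autoImplicit false

namespace CfsgLib.AltEightThree

open Subgroup CfsgLib.TwoGroups.FT
open scoped symmDiff

/-- Fixing the last point and being even. -/
def Tame (π : Equiv.Perm (Fin 5)) : Prop := Equiv.Perm.sign π = 1 ∧ π 4 = 4

instance : DecidablePred Tame := fun π => inferInstanceAs (Decidable (_ ∧ _))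

theorem tame_orders : ∀ π : Equiv.Perm (Fin 5), Tame π → π ^ 2 = 1 ∨ π ^ 3 = 1 := by
  decide +kernel

theorem tame_pair_stab : ∀ π : Equiv.Perm (Fin 5), Tame π → ∀ s : Finset (Fin 5), s.card = 2 →
    4 ∉ s → (s.image π = s ∨ s.image π = sᶜ) → π ^ 2 = 1 := by decide +kernel

theorem tame_pair_transitive : ∀ s u : Finset (Fin 5), s.card = 2 → 4 ∉ s → u.card = 2 → 4 ∉ u →
    ∃ π : Equiv.Perm (Fin 5), Tame π ∧ s.image π = u := by decide +kernel

theorem tame_image_pair : ∀ π : Equiv.Perm (Fin 5), Tame π → ∀ s : Finset (Fin 5), s.card = 2 →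
    4 ∉ s → (s.image π).card = 2 ∧ 4 ∉ s.image π := by decide +kernel

theorem pair_union : ∀ s : Finset (Fin 5), s.card = 2 → 4 ∉ s →
    (s ∆ {4})ᶜ.card = 2 ∧ 4 ∉ (s ∆ {4})ᶜ := by decide +kernel

theorem fixed_cases : ∀ π : Equiv.Perm (Fin 5), Tame π → π ^ 2 = 1 → π ≠ 1 →
    ∃ s : Finset (Fin 5), s.card = 2 ∧ 4 ∉ s ∧ s.image π = s ∧
      ∀ u : Finset (Fin 5), (u.image π = u ∨ u.image π = uᶜ) ↔
        (u = ∅ ∨ u = Finset.univ ∨ u = {4} ∨ u = {4}ᶜ ∨ u = s ∨ u = sᶜ ∨ u = s ∆ {4} ∨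
          u = (s ∆ {4})ᶜ) := by decide +kernel

theorem symmDiff_image : ∀ π : Equiv.Perm (Fin 5), Tame π → π ^ 2 = 1 →
    ∀ s : Finset (Fin 5), Even (s.erase 4).card →
      (s ∆ s.image π = ∅ ∨ s ∆ s.image π = Finset.univ) ∨ s ∆ s.image π = {4} ∨
        s ∆ s.image π = {4}ᶜ := by decide +kernel

theorem even_symmDiff : ∀ s u : Finset (Fin 5), Even (s.erase 4).card → Even (u.erase 4).card →
    Even ((s ∆ u).erase 4).card := by decide +kernel

theorem even_cases : ∀ s : Finset (Fin 5), Even (s.erase 4).card →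
    s = ∅ ∨ s = Finset.univ ∨ s = {4} ∨ s = {4}ᶜ ∨ (s.card = 2 ∧ 4 ∉ s) ∨
      (sᶜ.card = 2 ∧ 4 ∉ sᶜ) := by decide +kernel

theorem even_of_pair : ∀ s : Finset (Fin 5), s.card = 2 → 4 ∉ s → Even (s.erase 4).card := by
  decide +kernel

theorem even_image : ∀ π : Equiv.Perm (Fin 5), Tame π → ∀ s : Finset (Fin 5),
    Even (s.erase 4).card → Even ((s.image π).erase 4).card := by decide +kernel

namespace Data

variable {G : Type*} [Group G] (D : Data G)

/-- The centraliser of `a`. -/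
def H : Subgroup G := centralizer {D.a}

/-- The elements conjugating `x` to itself or to `x a`. -/
def Pre (x h : G) : Prop := h ∈ D.H ∧ (h * x * h⁻¹ = x ∨ h * x * h⁻¹ = x * D.a)

/-- The subgroup of `A` spanned by the pairs. -/
def W : Subgroup G where
  carrier := {x | ∃ s : Finset (Fin 5), Even (s.erase 4).card ∧ D.val s = x}
  one_mem' := ⟨∅, by decide, D.val_empty⟩
  mul_mem' := by
    rintro _ _ ⟨s, hs, rfl⟩ ⟨u, hu, rfl⟩
    exact ⟨s ∆ u, even_symmDiff s u hs hu, (D.val_mul s u).symm⟩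
  inv_mem' := by
    rintro _ ⟨s, hs, rfl⟩
    exact ⟨s, hs, (D.val_inv s).symm⟩

theorem mem_H {x : G} : x ∈ D.H ↔ x * D.a = D.a * x := mem_centralizer_singleton_iff

theorem A_le_H : D.A ≤ D.H := fun _ hx => D.mem_H.2 (D.comm hx D.a_mem)

theorem S_le_H : (D.S : Subgroup G) ≤ D.H := fun _ hx => D.mem_H.2 (D.S_comm_a hx)

theorem cent_le_H : centralizer (D.A : Set G) ≤ D.H := fun _ hx =>
  D.mem_H.2 (mem_centralizer_iff.1 hx _ D.a_mem).symm

theorem a_comm {h : G} (hh : h ∈ D.H) : h * D.a * h⁻¹ = D.a := by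
  rw [D.mem_H.1 hh, mul_inv_cancel_right]

theorem a_mul_a : D.a * D.a = 1 := D.val_sq _

theorem tame_of_mem {n : ↥(normalizer (D.A : Set G))} (h : (n : G) ∈ D.H) : Tame (D.φ n) :=
  ⟨D.sign_φ n, (D.fix_four_iff n).1 (D.mem_H.1 h)⟩

theorem mem_H_of_tame {n : ↥(normalizer (D.A : Set G))} (h : Tame (D.φ n)) : (n : G) ∈ D.H :=
  D.mem_H.2 ((D.fix_four_iff n).2 h.2)

theorem W_le_A : D.W ≤ D.A := by
  rintro _ ⟨s, -, rfl⟩
  exact D.val_mem s

theorem pair_mem_W {x : G} (h : D.IsPair x) : x ∈ D.W := by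
  obtain ⟨s, h1, h2, rfl⟩ := h
  exact ⟨s, even_of_pair s h1 h2, rfl⟩

theorem a_mem_W : D.a ∈ D.W := ⟨{4}, by decide, rfl⟩

theorem W_cases {x : G} (h : x ∈ D.W) : x = 1 ∨ x = D.a ∨ D.IsPair x := by
  obtain ⟨s, hs, rfl⟩ := h
  rcases even_cases s hs with rfl | rfl | rfl | rfl | h | h
  · exact Or.inl D.val_empty
  · exact Or.inl ((D.val_eq_one _).2 (Or.inr rfl))
  · exact Or.inr (Or.inl rfl)
  · exact Or.inr (Or.inl (D.val_compl _))
  · exact Or.inr (Or.inr ⟨s, h.1, h.2, rfl⟩)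
  · exact Or.inr (Or.inr ⟨sᶜ, h.1, h.2, (D.val_compl s).symm⟩)

theorem isPair_mul_a {x : G} (h : D.IsPair x) : D.IsPair (x * D.a) := by
  obtain ⟨s, h1, h2, rfl⟩ := h
  refine ⟨(s ∆ {4})ᶜ, (pair_union s h1 h2).1, (pair_union s h1 h2).2, ?_⟩
  rw [D.val_compl, Data.a, D.val_mul]

theorem isPair_ne {x : G} (h : D.IsPair x) : x ≠ 1 ∧ x ≠ D.a := by
  obtain ⟨s, h1, h2, rfl⟩ := h
  refine ⟨fun e => ?_, fun e => ?_⟩
  · rcases (D.val_eq_one s).1 e with rfl | rfl <;> simp at h1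
  · rcases (D.val_eq_iff s {4}).1 e with h | h
    · exact h2 (h ▸ Finset.mem_singleton_self 4)
    · have := congrArg Finset.card h
      rw [Finset.card_singleton, Finset.card_compl, h1] at this
      exact absurd this (by decide)

theorem isPair_conj {x : G} (h : D.IsPair x) {n : ↥(normalizer (D.A : Set G))}
    (hn : (n : G) ∈ D.H) : D.IsPair ((n : G) * x * (n : G)⁻¹) := by
  obtain ⟨s, h1, h2, rfl⟩ := h
  exact ⟨_, (tame_image_pair _ (D.tame_of_mem hn) s h1 h2).1,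
    (tame_image_pair _ (D.tame_of_mem hn) s h1 h2).2, D.val_conj n s⟩

theorem pair_transitive {x y : G} (hx : D.IsPair x) (hy : D.IsPair y) :
    ∃ n : ↥(normalizer (D.A : Set G)), (n : G) ∈ D.H ∧ (n : G) * x * (n : G)⁻¹ = y := by
  obtain ⟨s, h1, h2, rfl⟩ := hx
  obtain ⟨u, h3, h4, rfl⟩ := hy
  obtain ⟨π, hπ, hπ'⟩ := tame_pair_transitive s u h1 h2 h3 h4
  obtain ⟨n, hn⟩ := D.φ_surj π hπ.1
  refine ⟨n, D.mem_H_of_tame (hn ▸ hπ), ?_⟩
  rw [D.val_conj, hn, hπ']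

variable [Finite G]

theorem φ_S_props {x : G} (hx : x ∈ (D.S : Subgroup G)) :
    Tame (D.φ ⟨x, D.hSN hx⟩) ∧ D.φ ⟨x, D.hSN hx⟩ ^ 2 = 1 := by
  have ht : Tame (D.φ ⟨x, D.hSN hx⟩) := D.tame_of_mem (D.S_le_H hx)
  refine ⟨ht, ?_⟩
  rcases tame_orders _ ht with h | h
  · exact h
  · obtain ⟨j, hj⟩ := D.S.isPGroup' ⟨x, hx⟩
    have h2 : D.φ ⟨x, D.hSN hx⟩ ^ 2 ^ j = 1 := by
      rw [← map_pow]
      refine (congrArg D.φ ?_).trans (map_one D.φ)
      exact Subtype.ext (congrArg (fun z : (D.S : Subgroup G) => (z : G)) hj)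
    have h3 : D.φ ⟨x, D.hSN hx⟩ = 1 :=
      eq_one_of_odd_of_pow ((show Odd 3 by decide).of_dvd_nat (orderOf_dvd_of_pow_eq_one h)) h2
    rw [h3, one_pow]

theorem φ_S_ne_one {x : G} (hx : x ∈ (D.S : Subgroup G)) (hxA : x ∉ D.A) :
    D.φ ⟨x, D.hSN hx⟩ ≠ 1 := fun h => hxA (D.mem_A_of_φ_one (n := ⟨x, D.hSN hx⟩) hx h)

/-- Elements of the Sylow subgroup conjugate `W` modulo `a` trivially. -/
theorem S_comm_W {x w : G} (hx : x ∈ (D.S : Subgroup G)) (hw : w ∈ D.W) :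
    x * w * x⁻¹ = w ∨ x * w * x⁻¹ = w * D.a := by
  obtain ⟨s, hs, rfl⟩ := hw
  have h : x * D.val s * x⁻¹ = D.val (s.image (D.φ ⟨x, D.hSN hx⟩)) := D.val_conj ⟨x, D.hSN hx⟩ s
  rw [h]
  set u := s.image (D.φ ⟨x, D.hSN hx⟩) with hu
  have e : D.val u = D.val s * D.val (s ∆ u) := by
    rw [D.val_mul, symmDiff_symmDiff_cancel_left]
  rcases symmDiff_image _ (D.φ_S_props hx).1 (D.φ_S_props hx).2 s hs with hh | hh | hh
  · rw [e, (D.val_eq_one _).2 hh, mul_one]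
    exact Or.inl rfl
  · rw [e, hh]
    exact Or.inr rfl
  · rw [e, hh, D.val_compl]
    exact Or.inr rfl

/-- The fixed points in `A` of an element of the Sylow subgroup outside `A`. -/
theorem fixed {x : G} (hx : x ∈ (D.S : Subgroup G)) (hxA : x ∉ D.A) :
    ∃ p, D.IsPair p ∧ x * p = p * x ∧ Nat.card ↥(D.A ⊓ centralizer {x}) = 4 ∧
      ∀ u ∈ D.A ⊓ centralizer {x}, u = 1 ∨ u = D.a ∨ u = p ∨ u = p * D.a := by
  set n : ↥(normalizer (D.A : Set G)) := ⟨x, D.hSN hx⟩ with hn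
  obtain ⟨s, h1, h2, h3, h4⟩ := fixed_cases _ (D.φ_S_props hx).1 (D.φ_S_props hx).2
    (D.φ_S_ne_one hx hxA)
  have hp : D.IsPair (D.val s) := ⟨s, h1, h2, rfl⟩
  have hcomm : x * D.val s = D.val s * x := D.commute_of_image n (Or.inl h3)
  have hsub : ∀ u ∈ D.A ⊓ centralizer {x}, u = 1 ∨ u = D.a ∨ u = D.val s ∨ u = D.val s * D.a := by
    rintro _ ⟨hA, hC⟩
    obtain ⟨w, rfl⟩ := D.val_surj _ hA
    have := D.image_of_commute n (mem_centralizer_singleton_iff.1 hC).symm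
    rcases (h4 w).1 this with rfl | rfl | rfl | rfl | rfl | rfl | rfl | rfl
    · exact Or.inl D.val_empty
    · exact Or.inl ((D.val_eq_one _).2 (Or.inr rfl))
    · exact Or.inr (Or.inl rfl)
    · exact Or.inr (Or.inl (D.val_compl _))
    · exact Or.inr (Or.inr (Or.inl rfl))
    · exact Or.inr (Or.inr (Or.inl (D.val_compl _)))
    · exact Or.inr (Or.inr (Or.inr (D.val_mul _ _).symm))
    · exact Or.inr (Or.inr (Or.inr ((D.val_compl _).trans (D.val_mul _ _).symm)))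
  refine ⟨D.val s, hp, hcomm, ?_, hsub⟩
  have hset : ((D.A ⊓ centralizer {x} : Subgroup G) : Set G) = {1, D.a, D.val s, D.val s * D.a} := by
    ext u
    refine ⟨fun hu => hsub u hu, fun hu => ?_⟩
    have ha : D.a ∈ D.A ⊓ centralizer {x} :=
      ⟨D.a_mem, mem_centralizer_singleton_iff.2 (D.S_comm_a hx).symm⟩
    have hs : D.val s ∈ D.A ⊓ centralizer {x} :=
      ⟨D.val_mem s, mem_centralizer_singleton_iff.2 hcomm.symm⟩
    rcases hu with rfl | rfl | rfl | rfl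
    exacts [one_mem _, ha, hs, mul_mem hs ha]
  rw [← SetLike.coe_sort_coe, hset, Nat.card_coe_set_eq]
  obtain ⟨hp1, hpa⟩ := D.isPair_ne hp
  obtain ⟨hq1, hqa⟩ := D.isPair_ne (D.isPair_mul_a hp)
  have hpq : D.val s ≠ D.val s * D.a := fun e => D.a_ne_one (mul_eq_left.1 e.symm)
  rw [Set.ncard_insert_of_notMem (by simp [D.a_ne_one.symm, hp1.symm, hq1.symm]),
    Set.ncard_insert_of_notMem (by simp [hpa.symm, hqa.symm]), Set.ncard_pair hpq]

/-- The centraliser of a pair in `H` is controlled. -/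
theorem ctl_pair {p : G} (hp : D.IsPair p) : D.Ctl (D.H ⊓ centralizer {p}) := by
  have hAK : D.A ≤ D.H ⊓ centralizer {p} := fun u hu =>
    ⟨D.A_le_H hu, mem_centralizer_singleton_iff.2 (D.comm hu (D.pair_mem hp))⟩
  intro g hg
  obtain ⟨o, ho, k, hk, hkN, rfl⟩ := exists_core_mul hAK D.isPGroup_A (fun x hx y hy => D.comm hx hy)
    (fun P hP _ hAP x hx h _ hh => D.closed P hP hAP x hx h hh)
    (fun k hk hkN hko x hx => by
      set n : ↥(normalizer (D.A : Set G)) := ⟨k, hkN⟩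
      have hφ : D.φ n = 1 := by
        obtain ⟨s, h1, h2, rfl⟩ := hp
        exact eq_one_of_odd_two (D.odd_φ (n := n) hko)
          (tame_pair_stab _ (D.tame_of_mem (n := n) hk.1) s h1 h2
            (D.image_of_commute n (mem_centralizer_singleton_iff.1 hk.2)))
      exact (D.φ_one n).1 hφ x hx) hg
  exact ⟨o, ho, ⟨k, hkN⟩, hk, rfl⟩

theorem cent_le_pair {p : G} (hp : D.IsPair p) :
    centralizer (D.A : Set G) ≤ D.H ⊓ centralizer {p} := fun x hx =>
  ⟨D.cent_le_H hx, mem_centralizer_singleton_iff.2 (mem_centralizer_iff.1 hx _ (D.pair_mem hp)).symm⟩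

theorem pair_odd_mem {p : G} (hp : D.IsPair p) {x : G} (hx : x ∈ D.H ⊓ centralizer {p})
    (hodd : Odd (orderOf x)) : x ∈ core (D.H ⊓ centralizer {p}) := by
  refine D.mem_core_of_involutory (D.ctl_pair hp) (D.cent_le_pair hp) (fun n hn ho => ?_) hx hodd
  obtain ⟨s, h1, h2, rfl⟩ := hp
  exact eq_one_of_odd_two ho (tame_pair_stab _ (D.tame_of_mem hn.1) s h1 h2
    (D.image_of_commute n (mem_centralizer_singleton_iff.1 hn.2)))

theorem oddClosed_pair {p : G} (hp : D.IsPair p) : OddClosed (D.H ⊓ centralizer {p}) :=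
  ⟨core _, core_le _, odd_core _, fun _ hx ho => D.pair_odd_mem hp hx ho⟩

/-- Elements normalising the fixed group of `x` and centralising `a`. -/
theorem conj_fixed_pair {x : G} (hx : x ∈ (D.S : Subgroup G)) (hxA : x ∉ D.A) :
    ∃ p, D.IsPair p ∧ x * p = p * x ∧ ∀ k ∈ D.H,
      k ∈ normalizer ((D.A ⊓ centralizer {x} : Subgroup G) : Set G) →
        (k * p * k⁻¹ = p ∨ k * p * k⁻¹ = p * D.a) := by
  obtain ⟨p, hp, hpx, -, hsub⟩ := D.fixed hx hxA
  refine ⟨p, hp, hpx, fun k hk hkN => ?_⟩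
  have hpU : p ∈ D.A ⊓ centralizer {x} :=
    ⟨D.pair_mem hp, mem_centralizer_singleton_iff.2 hpx.symm⟩
  rcases hsub _ ((mem_normalizer_iff.1 hkN p).1 hpU) with h | h | h | h
  · exact absurd (conj_eq_one_iff.1 h) (D.isPair_ne hp).1
  · rw [← D.a_comm hk] at h
    exact absurd (mul_left_cancel (mul_right_cancel h)) (D.isPair_ne hp).2
  · exact Or.inl h
  · exact Or.inr h

/-- An element of `H` of odd order fixing `p` modulo `a` centralises `p`. -/
theorem odd_commute {p k : G} (hk : k ∈ D.H) (hodd : Odd (orderOf k))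
    (h : k * p * k⁻¹ = p ∨ k * p * k⁻¹ = p * D.a) : k * p = p * k := by
  refine (commute_of_sq hodd ?_).eq
  refine mul_inv_eq_iff_eq_mul.1 ?_
  rw [pow_two, show k * k * p * (k * k)⁻¹ = k * (k * p * k⁻¹) * k⁻¹ by group]
  rcases h with h | h
  · rw [h, h]
  · rw [h, show k * (p * D.a) * k⁻¹ = k * p * k⁻¹ * (k * D.a * k⁻¹) by group, h, D.a_comm hk,
      mul_assoc, D.a_mul_a, mul_one]

/-- Strong closure of the fixed group of `x` in the centraliser of `x`. -/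
theorem fixed_closed {x : G} (hx : x ∈ (D.S : Subgroup G)) (hxA : x ∉ D.A) {P : Subgroup G}
    (hP : IsPGroup 2 P) (hPK : P ≤ centralizer {x}) (hUP : D.A ⊓ centralizer {x} ≤ P) {y : G}
    (hy : y ∈ P) (hyAT : D.AT y) : y ∈ D.A ⊓ centralizer {x} := by
  haveI : Fact (Nat.Prime 2) := ⟨Nat.prime_two⟩
  set U := D.A ⊓ centralizer {x} with hU
  obtain ⟨p, hp, hpx, hcard, hsub⟩ := D.fixed hx hxA
  have hxn : ∀ l ∈ zpowers x, ∀ q ∈ P, l * q * l⁻¹ ∈ P := by
    intro l hl q hq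
    obtain ⟨i, rfl⟩ := mem_zpowers_iff.1 hl
    have h1 : Commute q x := mem_centralizer_singleton_iff.1 (hPK hq)
    rw [(h1.zpow_right i).symm.eq, mul_inv_cancel_right]
    exact hq
  have hP' : IsPGroup 2 ↥(P ⊔ zpowers x) :=
    hP.to_sup_of_normal_left' (D.S.isPGroup'.to_le ((zpowers_le).2 hx))
      (fun l hl => mem_normalizer_of_cj (eq_of_le_of_card_ge
        (by rintro _ ⟨q, hq, rfl⟩; exact hxn l hl q hq) (card_cj l P).ge))
  obtain ⟨g0, hg0⟩ := CfsgLib.Involutions.exists_conj_le_sylow hP' D.S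
  have hxS : g0 * x * g0⁻¹ ∈ (D.S : Subgroup G) := hg0 x (mem_sup_right (mem_zpowers x))
  have hxnA : g0 * x * g0⁻¹ ∉ D.A := fun h => hxA (D.mem_A_of_AT_S hx ⟨g0, h⟩)
  obtain ⟨-, -, -, hcard', -⟩ := D.fixed hxS hxnA
  have hcomm : ∀ w ∈ centralizer ({x} : Set G),
      g0 * w * g0⁻¹ ∈ centralizer ({g0 * x * g0⁻¹} : Set G) := by
    intro w hw
    refine mem_centralizer_singleton_iff.2 ?_
    rw [show g0 * w * g0⁻¹ * (g0 * x * g0⁻¹) = g0 * (w * x) * g0⁻¹ by group,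
      mem_centralizer_singleton_iff.1 hw]
    group
  have hle : cj g0 U ≤ D.A ⊓ centralizer {g0 * x * g0⁻¹} := by
    rintro _ ⟨w, hw, rfl⟩
    exact ⟨D.mem_A_of_AT_S (hg0 w (mem_sup_left (hUP hw))) (D.AT_conj (D.AT_of_mem hw.1) g0),
      hcomm w hw.2⟩
  have heq := eq_of_le_of_card_ge hle (by rw [hcard', card_cj, hU, hcard])
  have hyat : g0 * y * g0⁻¹ ∈ D.A ⊓ centralizer {g0 * x * g0⁻¹} :=
    ⟨D.mem_A_of_AT_S (hg0 y (mem_sup_left hy)) (D.AT_conj hyAT g0), hcomm y (hPK hy)⟩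
  rw [← heq] at hyat
  obtain ⟨w, hw, hwe⟩ := hyat
  have : w = y := mul_left_cancel (mul_right_cancel hwe)
  exact this ▸ hw

theorem ctl_out {x : G} (hx : x ∈ (D.S : Subgroup G)) (hxA : x ∉ D.A) {g : G}
    (hg : g ∈ D.H ⊓ centralizer {x}) :
    ∃ o ∈ core (D.H ⊓ centralizer {x}), ∃ k ∈ D.H ⊓ centralizer {x},
      k ∈ normalizer ((D.A ⊓ centralizer {x} : Subgroup G) : Set G) ∧ g = o * k := by
  haveI : Fact (Nat.Prime 2) := ⟨Nat.prime_two⟩
  set U := D.A ⊓ centralizer {x} with hU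
  set K := D.H ⊓ centralizer {x} with hKdef
  obtain ⟨p, hp, hpx, hcard, hsub⟩ := D.fixed hx hxA
  refine exists_core_mul (K := K) (A := U) (fun u hu => ⟨D.A_le_H hu.1, hu.2⟩)
    (D.isPGroup_A.to_le inf_le_left) (fun u hu w hw => D.comm hu.1 hw.1) ?_ ?_ hg
  · intro P hP hPK hUP u hu k _ hy
    exact D.fixed_closed hx hxA hP (fun q hq => (hPK hq).2) hUP hy (D.AT_conj (D.AT_of_mem hu.1) k)
  · intro k hk hkN hko u hu
    obtain ⟨q, hq, hqx, hconj⟩ := D.conj_fixed_pair hx hxA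
    have hkq : k * q = q * k := D.odd_commute hk.1 hko (hconj k hk.1 hkN)
    have hqU : q ∈ U := ⟨D.pair_mem hq, mem_centralizer_singleton_iff.2 hqx.symm⟩
    have hpq : q = p ∨ q = p * D.a := by
      rcases hsub q hqU with h | h | h | h
      · exact absurd h (D.isPair_ne hq).1
      · exact absurd h (D.isPair_ne hq).2
      · exact Or.inl h
      · exact Or.inr h
    have hka : k * D.a = D.a * k := D.mem_H.1 hk.1
    have hkp : k * p = p * k := by
      rcases hpq with rfl | rfl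
      · exact hkq
      · have e : p = p * D.a * D.a := by rw [mul_assoc, D.a_mul_a, mul_one]
        rw [e]
        exact (Commute.mul_right (show Commute k (p * D.a) from hkq) hka).eq
    rcases hsub u hu with rfl | rfl | rfl | rfl
    · simp
    · exact hka
    · exact hkp
    · exact (Commute.mul_right (show Commute k p from hkp) hka).eq

theorem oddClosed_out {x : G} (hx : x ∈ (D.S : Subgroup G)) (hxA : x ∉ D.A) :
    OddClosed (D.H ⊓ centralizer {x}) := by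
  set K := D.H ⊓ centralizer {x} with hKdef
  obtain ⟨p, hp, hpx, hconj⟩ := D.conj_fixed_pair hx hxA
  obtain ⟨R, hR, hRo, hRm⟩ := D.oddClosed_pair hp
  have hRK : R ⊓ K ≤ K := inf_le_right
  refine ⟨core K ⊔ R ⊓ K, sup_le (core_le K) hRK,
    odd_card_sup (odd_core K) (hRo.of_dvd_nat (card_dvd_of_le inf_le_left))
      (fun l hl c hc => conj_core (hRK hl) hc), fun g hg hgo => ?_⟩
  obtain ⟨o, ho, k, hk, hkN, rfl⟩ := D.ctl_out hx hxA hg
  refine mem_of_odd_mul (mem_sup_left ho) (fun u hu => ?_) hgo fun i hi => ?_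
  · obtain ⟨c, hc, r, hr, rfl⟩ := exists_of_mem_sup (fun l hl c hc => conj_core (hRK hl) hc) hu
    rw [show k * (c * r) * k⁻¹ = k * c * k⁻¹ * (k * r * k⁻¹) by group]
    refine mul_mem (mem_sup_left (conj_core hk hc)) (mem_sup_right ⟨hRm _ ⟨?_, ?_⟩ ?_, ?_⟩)
    · exact D.H.mul_mem (D.H.mul_mem hk.1 (hR hr.1).1) (D.H.inv_mem hk.1)
    · refine mem_centralizer_singleton_iff.2 ?_
      have hrp : Commute r p := mem_centralizer_singleton_iff.1 (hR hr.1).2
      have h1 : k * r * k⁻¹ * (k * p * k⁻¹) = k * p * k⁻¹ * (k * r * k⁻¹) := by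
        rw [show k * r * k⁻¹ * (k * p * k⁻¹) = k * (r * p) * k⁻¹ by group, hrp.eq]
        group
      rcases hconj k hk.1 hkN with h | h <;> rw [h] at h1
      · exact h1
      · have h2 : Commute (k * r * k⁻¹) D.a := D.mem_H.1 (mul_mem (mul_mem hk.1 (hR hr.1).1) (inv_mem hk.1))
        have := (Commute.mul_right (show Commute (k * r * k⁻¹) (p * D.a) from h1) h2).eq
        rwa [mul_assoc p, D.a_mul_a, mul_one] at this
    · rw [show k * r * k⁻¹ = MulAut.conj k r from rfl, MulEquiv.orderOf_eq]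
      exact odd_orderOf_of_mem hRo hr.1
    · exact K.mul_mem (K.mul_mem hk hr.2) (K.inv_mem hk)
  · have hkiN := pow_mem hkN i
    exact mem_sup_right ⟨hRm _ ⟨pow_mem hk.1 i, mem_centralizer_singleton_iff.2
      (D.odd_commute (pow_mem hk.1 i) hi (hconj _ (pow_mem hk.1 i) hkiN))⟩ hi, pow_mem hk i⟩

end Data

end CfsgLib.AltEightThree
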