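import Cfsg.Prelude.Def_CaseTheorems
import Cfsg.Agent.Lib.PCore.Basic
import Cfsg.Agent.Lib.TwoGroups.FusionTools
import Cfsg.Agent.Lib.Involutions.Transfer

/-!
Small tools about elements of odd order and cores of subgroups.
-/

set_option autoImplicit false

namespace CfsgLib.AltEightThree

open Subgroup

variable {G : Type*} [Group G]

/-- The largest normal subgroup of odd order of a subgroup, as a subgroup of the whole group. -/
def core (K : Subgroup G) : Subgroup G := (Cfsg.oddCore K).map K.subtype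

/-- A subgroup whose elements of odd order lie in a subgroup of odd order. -/
def OddClosed (K : Subgroup G) : Prop :=
  ∃ R : Subgroup G, R ≤ K ∧ Odd (Nat.card R) ∧ ∀ x ∈ K, Odd (orderOf x) → x ∈ R

theorem core_le (K : Subgroup G) : core K ≤ K := map_subtype_le _

theorem odd_core [Finite G] (K : Subgroup G) : Odd (Nat.card (core K)) := by
  unfold core
  rw [← Nat.card_congr ((Cfsg.oddCore K).equivMapOfInjective K.subtype K.subtype_injective).toEquiv]
  exact Nat.coprime_two_right.mp CfsgLib.PCore.pPrimeCore_coprime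

theorem conj_core {K : Subgroup G} {k x : G} (hk : k ∈ K) (hx : x ∈ core K) :
    k * x * k⁻¹ ∈ core K := by
  obtain ⟨y, hy, rfl⟩ := hx
  exact ⟨⟨k, hk⟩ * y * ⟨k, hk⟩⁻¹,
    (inferInstance : (Cfsg.oddCore K).Normal).conj_mem y hy _, rfl⟩

theorem le_core {K R : Subgroup G} (hRK : R ≤ K) (hodd : Odd (Nat.card R))
    (hn : ∀ k ∈ K, ∀ r ∈ R, k * r * k⁻¹ ∈ R) : R ≤ core K := by
  have hnorm : (R.subgroupOf K).Normal := ⟨fun r hr k => hn k k.2 r hr⟩
  have h : R.subgroupOf K ≤ Cfsg.oddCore K :=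
    CfsgLib.PCore.le_pPrimeCore hnorm (Nat.coprime_two_right.mpr
      (by rwa [Nat.card_congr (subgroupOfEquivOfLe hRK).toEquiv]))
  intro r hr
  exact ⟨⟨r, hRK hr⟩, h hr, rfl⟩

theorem core_top_le [Finite G] : core (⊤ : Subgroup G) ≤ Cfsg.oddCore G := by
  refine CfsgLib.PCore.le_pPrimeCore ⟨fun x hx g => conj_core (mem_top g) hx⟩
    (Nat.coprime_two_right.mpr (odd_core _))

/-- Cores correspond under conjugation. -/
theorem conj_core_mem [Finite G] (g : G) {K K' : Subgroup G} (h : ∀ y, y ∈ K ↔ g * y * g⁻¹ ∈ K')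
    {x : G} (hx : x ∈ core K) : g * x * g⁻¹ ∈ core K' := by
  have hle : TwoGroups.FT.cj g (core K) ≤ core K' := by
    refine le_core ?_ (by rw [TwoGroups.FT.card_cj]; exact odd_core K) ?_
    · rintro _ ⟨y, hy, rfl⟩
      exact (h y).1 (core_le K hy)
    · rintro k hk _ ⟨y, hy, rfl⟩
      refine TwoGroups.FT.mem_cj.2 ?_
      have h1 : g⁻¹ * k * g ∈ K := (h _).2 (by simpa [mul_assoc] using hk)
      have h2 := conj_core h1 hy
      simpa [mul_assoc] using h2
  exact hle (TwoGroups.FT.conj_mem_cj hx)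

theorem odd_orderOf_of_mem {R : Subgroup G} (hR : Odd (Nat.card R)) {x : G}
    (hx : x ∈ R) : Odd (orderOf x) :=
  hR.of_dvd_nat ((Subgroup.orderOf_mk x hx).symm ▸ orderOf_dvd_natCard _)

theorem eq_one_of_odd_of_pow {x : G} (hx : Odd (orderOf x)) {j : ℕ} (h : x ^ 2 ^ j = 1) : x = 1 := by
  rw [← orderOf_eq_one_iff]
  exact Nat.eq_one_of_dvd_coprimes (Nat.Coprime.pow_left j (Nat.coprime_two_left.mpr hx))
    (orderOf_dvd_of_pow_eq_one h) dvd_rfl

theorem eq_one_of_odd_of_twoGroup {P : Subgroup G} (hP : IsPGroup 2 P) {x : G} (hxP : x ∈ P)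
    (hx : Odd (orderOf x)) : x = 1 := by
  obtain ⟨j, hj⟩ := hP ⟨x, hxP⟩
  exact eq_one_of_odd_of_pow hx (congrArg Subtype.val hj)

/-- An element of odd order is a power of any of its powers with a 2-power exponent. -/
theorem mem_of_pow_two_pow_mem {R : Subgroup G} {x : G} (hx : Odd (orderOf x)) (j : ℕ)
    (h : x ^ 2 ^ j ∈ R) : x ∈ R := by
  obtain ⟨k, hk⟩ := exists_pow_eq_self_of_coprime (x := x) (n := 2 ^ j)
    (Nat.Coprime.pow_left j (Nat.coprime_two_left.mpr hx))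
  rw [← hk]
  exact pow_mem h k

theorem commute_of_sq {x y : G} (hx : Odd (orderOf x)) (h : Commute (x ^ 2) y) : Commute x y := by
  have : x ∈ centralizer ({y} : Set G) :=
    mem_of_pow_two_pow_mem hx 1 (mem_centralizer_singleton_iff.2 h.eq)
  exact mem_centralizer_singleton_iff.1 this

theorem exists_of_mem_sup {R L : Subgroup G} (hn : ∀ l ∈ L, ∀ r ∈ R, l * r * l⁻¹ ∈ R) {x : G}
    (hx : x ∈ R ⊔ L) : ∃ r ∈ R, ∃ l ∈ L, x = r * l := by
  let P : Subgroup G :=
    { carrier := {x | ∃ r ∈ R, ∃ l ∈ L, x = r * l}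
      one_mem' := ⟨1, one_mem R, 1, one_mem L, (one_mul 1).symm⟩
      mul_mem' := by
        rintro _ _ ⟨r, hr, l, hl, rfl⟩ ⟨r', hr', l', hl', rfl⟩
        exact ⟨r * (l * r' * l⁻¹), mul_mem hr (hn l hl r' hr'), l * l', mul_mem hl hl', by group⟩
      inv_mem' := by
        rintro _ ⟨r, hr, l, hl, rfl⟩
        exact ⟨l⁻¹ * r⁻¹ * l⁻¹⁻¹, hn _ (inv_mem hl) _ (inv_mem hr), l⁻¹, inv_mem hl, by group⟩ }
  have hle : R ⊔ L ≤ P :=
    sup_le (fun r hr => ⟨r, hr, 1, one_mem L, (mul_one r).symm⟩)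
      (fun l hl => ⟨1, one_mem R, l, hl, (one_mul l).symm⟩)
  exact hle hx

theorem exists_mul_pow {R : Subgroup G} {r l : G} (hr : r ∈ R)
    (hn : ∀ u ∈ R, l * u * l⁻¹ ∈ R) : ∀ k : ℕ, ∃ r' ∈ R, (r * l) ^ k = r' * l ^ k
  | 0 => ⟨1, one_mem R, by simp⟩
  | k + 1 => by
    obtain ⟨r', hr', h⟩ := exists_mul_pow hr hn k
    refine ⟨r * (l * r' * l⁻¹), mul_mem hr (hn r' hr'), ?_⟩
    rw [pow_succ' (r * l), h, pow_succ' l]
    group

/-- Elements of odd order of a product `R L`. -/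
theorem mem_of_odd_mul [Finite G] {R : Subgroup G} {r l : G} (hr : r ∈ R)
    (hn : ∀ u ∈ R, l * u * l⁻¹ ∈ R) (hodd : Odd (orderOf (r * l)))
    (hl : ∀ k : ℕ, Odd (orderOf (l ^ k)) → l ^ k ∈ R) : r * l ∈ R := by
  obtain ⟨a, m, hm, ho⟩ := Nat.exists_eq_two_pow_mul_odd (orderOf_pos l).ne'
  have h1 : l ^ 2 ^ a ∈ R := by
    refine hl _ ?_
    rw [orderOf_pow' _ (pow_ne_zero a two_ne_zero), ho, Nat.gcd_mul_right_left,
      Nat.mul_div_cancel_left _ (pow_pos two_pos a)]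
    exact hm
  obtain ⟨r', hr', h⟩ := exists_mul_pow hr hn (2 ^ a)
  exact mem_of_pow_two_pow_mem hodd a (h ▸ mul_mem hr' h1)

theorem odd_card_iff [Finite G] {R : Subgroup G} :
    Odd (Nat.card R) ↔ ∀ x ∈ R, x * x = 1 → x = 1 := by
  constructor
  · exact fun h x hx hxx => eq_one_of_odd_of_pow (odd_orderOf_of_mem h hx) (j := 1)
      (by rwa [pow_one, pow_two])
  · intro h
    rw [← Nat.not_even_iff_odd, even_iff_two_dvd]
    intro hd
    haveI : Fact (Nat.Prime 2) := ⟨Nat.prime_two⟩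
    obtain ⟨x, hx⟩ := exists_prime_orderOf_dvd_card' 2 hd
    have h1 : (x : G) * x = 1 := by
      have := pow_orderOf_eq_one (x : G)
      rwa [Subgroup.orderOf_coe, hx, pow_two] at this
    have h2 : x = 1 := Subtype.ext (h x x.2 h1)
    rw [h2, orderOf_one] at hx
    omega

theorem odd_card_sup [Finite G] {R L : Subgroup G} (hR : Odd (Nat.card R)) (hL : Odd (Nat.card L))
    (hn : ∀ l ∈ L, ∀ r ∈ R, l * r * l⁻¹ ∈ R) : Odd (Nat.card ↥(R ⊔ L)) := by
  refine odd_card_iff.2 fun x hx hxx => ?_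
  obtain ⟨r, hr, l, hl, rfl⟩ := exists_of_mem_sup hn hx
  obtain ⟨r', hr', h⟩ := exists_mul_pow hr (hn l hl) (Nat.card L)
  have h1 : l ^ Nat.card L = 1 := congrArg Subtype.val (pow_card_eq_one' (x := (⟨l, hl⟩ : L)))
  obtain ⟨i, hi⟩ := hL
  rw [h1, mul_one, hi, pow_succ, pow_mul, pow_two, hxx, one_pow, one_mul] at h
  exact odd_card_iff.1 hR _ (h ▸ hr') hxx

/-- In a group whose order is twice an odd number the elements of odd order lie in a subgroup of
odd order. -/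
theorem exists_oddPart [Finite G] {X : Subgroup G} {m : ℕ} (hm : Odd m)
    (hX : Nat.card X = 2 * m) : OddClosed X := by
  obtain ⟨W, hW⟩ := CfsgLib.Involutions.exists_index_two_of_card_eq_two_mul_odd hm hX
  refine ⟨W.map X.subtype, map_subtype_le _, ?_, fun x hx ho => ?_⟩
  · rw [← Nat.card_congr (W.equivMapOfInjective X.subtype X.subtype_injective).toEquiv]
    have := W.card_mul_index
    rw [hW, hX] at this
    rwa [show Nat.card W = m by omega]
  · have h2 : (⟨x, hx⟩ : X) ^ 2 ^ 1 ∈ W := by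
      rw [pow_one, pow_two]
      exact Subgroup.mul_self_mem_of_index_two hW _
    exact ⟨⟨x, hx⟩, mem_of_pow_two_pow_mem (by rwa [Subgroup.orderOf_mk]) 1 h2, rfl⟩

theorem OddClosed.mono [Finite G] {K K' : Subgroup G} (h : OddClosed K) (hle : K' ≤ K) :
    OddClosed K' := by
  obtain ⟨R, hR, ho, hm⟩ := h
  exact ⟨R ⊓ K', inf_le_right, ho.of_dvd_nat (card_dvd_of_le inf_le_left),
    fun x hx hox => ⟨hm x (hle hx) hox, hx⟩⟩

theorem OddClosed.conj_mem [Finite G] {K : Subgroup G} {R : Subgroup G} (hRK : R ≤ K)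
    (ho : Odd (Nat.card R)) (hm : ∀ x ∈ K, Odd (orderOf x) → x ∈ R) {k x : G} (hk : k ∈ K)
    (hx : x ∈ R) : k * x * k⁻¹ ∈ R :=
  hm _ (mul_mem (mul_mem hk (hRK hx)) (inv_mem hk)) (by
    have := MulEquiv.orderOf_eq (MulAut.conj k) x
    rw [MulAut.conj_apply] at this
    rw [this]
    exact odd_orderOf_of_mem ho hx)

end CfsgLib.AltEightThree
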