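import Cfsg.Prelude.Def_CaseTheorems
import Cfsg.Agent.Lib.AltEightThree.Tools
import Cfsg.Agent.Lib.Involutions.WeaklyClosedCentral
import Cfsg.Agent.Lib.OddOrder.PuigSeries
import Cfsg.Agent.S1250

/-!
A strongly closed abelian 2-subgroup whose normaliser induces a 2-group on it is normal modulo
the core.
-/

set_option autoImplicit false

namespace CfsgLib.AltEightThree

open Subgroup CfsgLib.TwoGroups.FT

universe u

/-- Strong closure of `A` read in all 2-subgroups containing it. -/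
def Closed {G : Type*} [Group G] (A : Subgroup G) : Prop :=
  ∀ P : Subgroup G, IsPGroup 2 P → A ≤ P → ∀ x ∈ A, ∀ g : G, g * x * g⁻¹ ∈ P → g * x * g⁻¹ ∈ A

theorem Closed.mem_normalizer {G : Type*} [Group G] [Finite G] {A : Subgroup G} (h : Closed A)
    {P : Subgroup G} (hP : IsPGroup 2 P) (hAP : A ≤ P) {g : G} (hg : cj g A ≤ P) :
    g ∈ normalizer (A : Set G) :=
  mem_normalizer_of_cj (eq_of_le_of_card_ge
    (by rintro _ ⟨x, hx, rfl⟩; exact h P hP hAP x hx g (hg ⟨x, hx, rfl⟩)) (card_cj g A).ge)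

/-- Conjugate elements of `A` are conjugate in the normaliser. -/
theorem Closed.control {G : Type*} [Group G] [Finite G] {A : Subgroup G} (h : Closed A)
    (hA : IsPGroup 2 A) (hab : ∀ x ∈ A, ∀ y ∈ A, x * y = y * x) {K : Subgroup G} (hAK : A ≤ K)
    {x g : G} (hg : g ∈ K) (hx : x ∈ A) (hy : g * x * g⁻¹ ∈ A) :
    ∃ n ∈ K, n ∈ normalizer (A : Set G) ∧ n * x * n⁻¹ = g * x * g⁻¹ := by
  set y := g * x * g⁻¹ with hy'
  set C := K ⊓ centralizer ({y} : Set G) with hC
  have hAC : A ≤ C := fun a ha => ⟨hAK ha, mem_centralizer_singleton_iff.2 (hab a ha y hy)⟩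
  have hgC : cj g A ≤ C := by
    rintro _ ⟨a, ha, rfl⟩
    refine ⟨K.mul_mem (K.mul_mem hg (hAK ha)) (K.inv_mem hg), mem_centralizer_singleton_iff.2 ?_⟩
    show g * a * g⁻¹ * y = y * (g * a * g⁻¹)
    rw [hy', show g * a * g⁻¹ * (g * x * g⁻¹) = g * (a * x) * g⁻¹ by group, hab a ha x hx]
    group
  obtain ⟨P, hP⟩ := (hA.of_injective (subgroupOfEquivOfLe hAC).toMonoidHom
    (subgroupOfEquivOfLe hAC).injective).exists_le_sylow
  set P' : Subgroup G := (P : Subgroup C).map C.subtype with hP'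
  have hAP : A ≤ P' := fun a ha => ⟨⟨a, hAC ha⟩, hP (show (⟨a, hAC ha⟩ : C) ∈ A.subgroupOf C from ha), rfl⟩
  have hodd : Odd (P'.relIndex C) := by
    have h1 := P.not_dvd_index
    have h2 : P'.relIndex C = (P : Subgroup C).index := by
      rw [hP', ← Subgroup.relIndex_top_right (H := (P : Subgroup C)),
        ← Subgroup.relIndex_map_map_of_injective (H := (P : Subgroup C)) (K := ⊤) (f := C.subtype)
          C.subtype_injective]
      rw [← MonoidHom.range_eq_map, Subgroup.range_subtype]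
    rw [h2, Nat.odd_iff]
    omega
  obtain ⟨c, hc, hcle⟩ := exists_conj_into (P.isPGroup'.map C.subtype) (map_subtype_le _) hodd
    (isPGroup_cj hA) hgC
  rw [cj_cj] at hcle
  refine ⟨c * g, mul_mem hc.1 hg, h.mem_normalizer (P.isPGroup'.map C.subtype) hAP hcle, ?_⟩
  rw [show c * g * x * (c * g)⁻¹ = c * y * c⁻¹ by rw [hy']; group,
    mem_centralizer_singleton_iff.1 hc.2, mul_inv_cancel_right]

/-- If the elements of odd order of a finite group fix a point of an action, and so does a Sylow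
2-subgroup, then all elements fix it. -/
theorem eq_top_of_odd_of_sylow {M : Type*} [Group M] [Finite M] (L : Subgroup M) (P : Sylow 2 M)
    (hP : (P : Subgroup M) ≤ L) (hodd : ∀ x : M, Odd (orderOf x) → x ∈ L) : L = ⊤ := by
  have hf : Fact (Nat.Prime 2) := ⟨Nat.prime_two⟩
  set R : Subgroup M := closure {x | Odd (orderOf x)} with hR
  have hRL : R ≤ L := (closure_le L).2 hodd
  have hRn : R.Normal := ⟨fun x hx g => by
    have h : R.map (MulAut.conj g).toMonoidHom ≤ R := by
      rw [hR, MonoidHom.map_closure, closure_le]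
      rintro _ ⟨y, hy, rfl⟩
      refine subset_closure ?_
      show Odd (orderOf (MulAut.conj g y))
      rwa [MulEquiv.orderOf_eq]
    exact h ⟨x, hx, rfl⟩⟩
  have hp : IsPGroup 2 (M ⧸ R) := fun q => by
    obtain ⟨x, rfl⟩ := QuotientGroup.mk'_surjective R q
    obtain ⟨a, m, hm, ho⟩ := Nat.exists_eq_two_pow_mul_odd (orderOf_pos x).ne'
    refine ⟨a, ?_⟩
    rw [← map_pow, QuotientGroup.mk'_apply, QuotientGroup.eq_one_iff]
    refine subset_closure ?_
    show Odd (orderOf (x ^ 2 ^ a))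
    rw [orderOf_pow' _ (pow_ne_zero a two_ne_zero), ho, Nat.gcd_mul_right_left,
      Nat.mul_div_cancel_left _ (pow_pos two_pos a)]
    exact hm
  have hP2 : ((P.mapSurjective (QuotientGroup.mk'_surjective R) : Sylow 2 (M ⧸ R)) :
      Subgroup (M ⧸ R)) = ⊤ :=
    ((P.mapSurjective (QuotientGroup.mk'_surjective R)).is_maximal'
      (Q := ⊤) (by intro x; obtain ⟨k, hk⟩ := hp x.1; exact ⟨k, Subtype.ext hk⟩) le_top).symm
  rw [eq_top_iff]
  intro x _
  have h1 : QuotientGroup.mk' R x ∈ (⊤ : Subgroup (M ⧸ R)) := mem_top _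
  rw [← hP2, Sylow.coe_mapSurjective] at h1
  obtain ⟨p, hp', hpx⟩ := h1
  have h2 : p⁻¹ * x ∈ R := by
    rw [← QuotientGroup.eq_one_iff, QuotientGroup.mk_mul, QuotientGroup.mk_inv]
    simp only [QuotientGroup.mk'_apply] at hpx
    rw [hpx, inv_mul_cancel]
  simpa using mul_mem (hP hp') (hRL h2)

theorem exists_core_mul_aux : ∀ (n : ℕ) (G : Type u) [Group G] [Finite G] (A : Subgroup G),
    Nat.card G = n → IsPGroup 2 A → (∀ x ∈ A, ∀ y ∈ A, x * y = y * x) → Closed A →
    (∀ k ∈ normalizer (A : Set G), Odd (orderOf k) → ∀ x ∈ A, k * x = x * k) →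
    ∀ g : G, ∃ o ∈ Cfsg.oddCore G, ∃ k ∈ normalizer (A : Set G), g = o * k := by
  have hf : Fact (Nat.Prime 2) := ⟨Nat.prime_two⟩
  intro n
  induction n using Nat.strong_induction_on with
  | _ n ih =>
  intro G _ _ A hn hA hab hcl hodd g
  by_cases hA1 : A = ⊥
  · refine ⟨1, one_mem _, g, mem_normalizer_of_cj ?_, (one_mul g).symm⟩
    subst hA1
    exact Subgroup.map_bot _
  obtain ⟨S, hS⟩ := hA.exists_le_sylow
  -- a central involution of the Sylow subgroup in `A`
  have hSN : (S : Subgroup G) ≤ normalizer (A : Set G) := fun s hs =>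
    hcl.mem_normalizer S.isPGroup' hS
      ((cj_mono hS).trans (cj_eq_of_mem hs).le)
  obtain ⟨x, hxA, hx2, hxS⟩ : ∃ x ∈ A, orderOf x = 2 ∧ ∀ s ∈ (S : Subgroup G), s * x = x * s := by
    haveI : (A.subgroupOf (S : Subgroup G)).Normal := normal_subgroupOf_iff_le_normalizer hS |>.2 hSN
    haveI : Nontrivial ↥(A.subgroupOf (S : Subgroup G)) := by
      rw [Subgroup.nontrivial_iff_ne_bot]
      intro h
      apply hA1
      rw [eq_bot_iff]
      intro a ha
      have : (⟨a, hS ha⟩ : (S : Subgroup G)) ∈ A.subgroupOf (S : Subgroup G) := ha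
      rw [h, mem_bot] at this
      exact congrArg Subtype.val this
    haveI : Group.IsNilpotent (S : Subgroup G) := S.isPGroup'.isNilpotent
    have hne := CfsgLib.OddOrder.PuigSeries.inf_center_ne_bot (A.subgroupOf (S : Subgroup G))
      ((Subgroup.nontrivial_iff_ne_bot _).1 inferInstance)
    obtain ⟨⟨z, hz⟩, hz1⟩ := (Subgroup.ne_bot_iff_exists_ne_one).1 hne
    replace hz1 : z ≠ 1 := fun e => hz1 (Subtype.ext e)
    obtain ⟨k, hk⟩ := IsPGroup.iff_orderOf.mp S.isPGroup' z
    rcases k with _ | k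
    · exact absurd (orderOf_eq_one_iff.1 hk) hz1
    · refine ⟨((z ^ 2 ^ k : (S : Subgroup G)) : G), ?_, ?_, fun s hs => ?_⟩
      · exact (pow_mem hz.2 _ : z ^ 2 ^ k ∈ A.subgroupOf (S : Subgroup G))
      · rw [Subgroup.orderOf_coe, orderOf_pow' _ (pow_ne_zero k two_ne_zero), hk,
          Nat.gcd_eq_right (pow_dvd_pow 2 k.le_succ), pow_succ,
          Nat.mul_div_cancel_left _ (pow_pos two_pos k)]
      · exact congrArg Subtype.val
          (Subgroup.mem_center_iff.1 (pow_mem hz.1 (2 ^ k)) ⟨s, hs⟩)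
  -- it is isolated
  have hfix : ∀ k ∈ normalizer (A : Set G), k * x = x * k := by
    intro k hk
    set N := normalizer (A : Set G)
    have htop : (centralizer ({x} : Set G)).subgroupOf N = ⊤ :=
      eq_top_of_odd_of_sylow _ (S.subtype hSN)
        (fun s hs => mem_centralizer_singleton_iff.2 (hxS _ hs))
        (fun s hs => mem_centralizer_singleton_iff.2 (hodd _ s.2 (by rwa [Subgroup.orderOf_coe]) x hxA))
    have : (⟨k, hk⟩ : N) ∈ (centralizer ({x} : Set G)).subgroupOf N := htop ▸ mem_top _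
    exact mem_centralizer_singleton_iff.1 this
  have hiso : Cfsg.IsIsolatedInvolution x := by
    refine CfsgLib.Involutions.isIsolated_of_sylow S hx2 fun h hh => ?_
    obtain ⟨k, -, hk, hk'⟩ := hcl.control hA hab (K := ⊤) le_top (mem_top h) hxA
      (hcl S S.isPGroup' hS x hxA h hh)
    rw [← hk', hfix k hk, mul_inv_cancel_right]
  have hz : ∀ h : G, h * x * h⁻¹ * x⁻¹ ∈ Cfsg.oddCore G := CfsgLib.Involutions.zstar G x hiso
  set O := Cfsg.oddCore G with hO
  have hOodd : Odd (Nat.card O) := Nat.coprime_two_right.mp CfsgLib.PCore.pPrimeCore_coprime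
  set M := O ⊔ zpowers x with hM
  have hMn : M.Normal := by
    refine ⟨fun y hy h => ?_⟩
    obtain ⟨o, ho, z, hz', rfl⟩ := Subgroup.mem_sup_of_normal_left.1 hy
    obtain ⟨i, rfl⟩ := hz'
    rw [show h * (o * x ^ i) * h⁻¹ = h * o * h⁻¹ * (h * x * h⁻¹) ^ i by rw [conj_zpow]; group]
    refine mul_mem (mem_sup_left ((inferInstance : O.Normal).conj_mem o ho h)) (zpow_mem ?_ i)
    rw [show h * x * h⁻¹ = h * x * h⁻¹ * x⁻¹ * x by group]
    exact mul_mem (mem_sup_left (hz h)) (mem_sup_right (mem_zpowers x))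
  have hxM : x ∈ M := mem_sup_right (mem_zpowers x)
  set π := QuotientGroup.mk' M with hπ
  have hlt : Nat.card (G ⧸ M) < n := by
    have h1 := M.card_eq_card_quotient_mul_card_subgroup
    have h2 : 2 ≤ Nat.card M := by
      haveI : Nontrivial M := ⟨⟨⟨x, hxM⟩, 1, fun e => by
        have := congrArg Subtype.val e
        simp only [OneMemClass.coe_one] at this
        rw [this, orderOf_one] at hx2
        omega⟩⟩
      exact Finite.one_lt_card
    have h3 : 0 < Nat.card (G ⧸ M) := Nat.card_pos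
    subst hn
    nlinarith
  -- Frattini argument for preimages
  have key : ∀ h : G, π h ∈ normalizer ((A.map π : Subgroup (G ⧸ M)) : Set (G ⧸ M)) →
      ∃ o ∈ O, ∃ k ∈ normalizer (A : Set G), h = o * k := by
    intro h hh
    have hsub : cj h A ≤ O ⊔ A := by
      rintro _ ⟨y, hy, rfl⟩
      have h1 : π h * π y * (π h)⁻¹ ∈ A.map π := (Subgroup.mem_normalizer_iff.1 hh _).1 ⟨y, hy, rfl⟩
      obtain ⟨z, hz', hze⟩ := h1
      rw [← map_inv, ← map_mul, ← map_mul] at hze
      obtain ⟨w, hw, hw'⟩ := (QuotientGroup.mk'_eq_mk' M).1 hze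
      show h * y * h⁻¹ ∈ O ⊔ A
      rw [← hw']
      exact mul_mem (mem_sup_right hz')
        ((sup_le_sup_left ((zpowers_le).2 hxA) O) hw)
    have hrel : Odd (A.relIndex (O ⊔ A)) := by
      have h1 := relIndex_mul_relIndex ⊥ A (O ⊔ A) bot_le le_sup_right
      rw [relIndex_bot_left, relIndex_bot_left] at h1
      have h2 : Nat.card ↥(O ⊔ A) ∣ Nat.card O * Nat.card A := CfsgLib.PCore.card_sup_dvd_mul O A
      rw [← h1, mul_comm (Nat.card O)] at h2
      exact hOodd.of_dvd_nat (Nat.dvd_of_mul_dvd_mul_left Nat.card_pos h2)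
    obtain ⟨m, hm, hle⟩ := exists_conj_into hA le_sup_right hrel (isPGroup_cj hA) hsub
    rw [cj_cj] at hle
    have hmh := hcl.mem_normalizer hA le_rfl hle
    obtain ⟨o, ho, a, ha, rfl⟩ := Subgroup.mem_sup_of_normal_left.1 hm
    refine ⟨a⁻¹ * o⁻¹ * a, ?_, a⁻¹ * (o * a * h), mul_mem (le_normalizer (inv_mem ha)) hmh,
      by group⟩
    simpa using (inferInstance : O.Normal).conj_mem _ (inv_mem ho) a⁻¹
  -- the image is strongly closed
  have hcl' : Closed (A.map π) := by
    have hsc : Cfsg.IsStronglyClosed A (S : Subgroup G) := ⟨hS, fun y hy h hh => hcl S S.isPGroup' hS y hy h hh⟩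
    have h1 := Cfsg.Agent.S1250.result S A hsc M
    intro P hP hAP y hy q hq
    obtain ⟨k, hk⟩ := CfsgLib.Involutions.exists_conj_le_sylow hP
      (S.mapSurjective (QuotientGroup.mk'_surjective M))
    have hkA : k ∈ normalizer ((A.map π : Subgroup (G ⧸ M)) : Set (G ⧸ M)) := by
      refine mem_normalizer_of_cj (eq_of_le_of_card_ge ?_ (card_cj k _).ge)
      rintro _ ⟨z, hz', rfl⟩
      have h4 : k * z * k⁻¹ ∈ ((S.mapSurjective (QuotientGroup.mk'_surjective M) : Sylow 2 (G ⧸ M)) :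
          Subgroup (G ⧸ M)) := hk z (hAP hz')
      rw [Sylow.coe_mapSurjective] at h4
      exact h1.2 z hz' k h4
    have h2 : k * (q * y * q⁻¹) * k⁻¹ ∈ A.map π := by
      have h3 : k * (q * y * q⁻¹) * k⁻¹ ∈ ((S.mapSurjective (QuotientGroup.mk'_surjective M) :
          Sylow 2 (G ⧸ M)) : Subgroup (G ⧸ M)) := hk _ hq
      rw [Sylow.coe_mapSurjective] at h3
      have e : k * (q * y * q⁻¹) * k⁻¹ = (k * q) * y * (k * q)⁻¹ := by group
      rw [e] at h3 ⊢
      exact h1.2 y hy _ h3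
    exact (Subgroup.mem_normalizer_iff.1 hkA _).2 h2
  have hodd' : ∀ q ∈ normalizer ((A.map π : Subgroup (G ⧸ M)) : Set (G ⧸ M)), Odd (orderOf q) →
      ∀ y ∈ A.map π, q * y = y * q := by
    rintro q hq hqo _ ⟨y, hy, rfl⟩
    obtain ⟨h, rfl⟩ := QuotientGroup.mk'_surjective M q
    obtain ⟨o, ho, k, hk, rfl⟩ := key h hq
    have hqk : π (o * k) = π k := by
      rw [map_mul, show π o = 1 from (QuotientGroup.eq_one_iff o).2 (mem_sup_left ho), one_mul]
    rw [hqk] at hqo ⊢
    obtain ⟨a, m, hm, hka⟩ := Nat.exists_eq_two_pow_mul_odd (orderOf_pos k).ne'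
    have ho2 : Odd (orderOf (k ^ 2 ^ a)) := by
      rw [orderOf_pow' _ (pow_ne_zero a two_ne_zero), hka, Nat.gcd_mul_right_left,
        Nat.mul_div_cancel_left _ (pow_pos two_pos a)]
      exact hm
    have h3 := congrArg π (hodd _ (pow_mem hk _) ho2 y hy)
    rw [map_mul, map_mul, map_pow] at h3
    exact mem_centralizer_singleton_iff.1
      (mem_of_pow_two_pow_mem hqo a (mem_centralizer_singleton_iff.2 h3))
  obtain ⟨o', ho', q, hq, hgq⟩ := ih _ hlt (G ⧸ M) (A.map π) rfl (hA.map π)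
    (by rintro _ ⟨a, ha, rfl⟩ _ ⟨b, hb, rfl⟩; rw [← map_mul, hab a ha b hb, map_mul]) hcl' hodd' (π g)
  have ho'1 : o' = 1 := by
    set K : Subgroup G := (Cfsg.oddCore (G ⧸ M)).comap π with hK
    haveI : K.Normal := (inferInstance : (Cfsg.oddCore (G ⧸ M)).Normal).comap π
    have hMK : M ≤ K := fun y hy => by
      rw [hK, Subgroup.mem_comap, show π y = 1 from (QuotientGroup.eq_one_iff y).2 hy]
      exact one_mem _
    have hcard : Nat.card M = Nat.card O * 2 := by
      refine Nat.dvd_antisymm ?_ ((Nat.coprime_two_right.2 hOodd).mul_dvd_of_dvd_of_dvd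
        (card_dvd_of_le le_sup_left) ?_)
      · have := CfsgLib.PCore.card_sup_dvd_mul O (zpowers x)
        rwa [Nat.card_zpowers, hx2] at this
      · have := card_dvd_of_le (show zpowers x ≤ M from le_sup_right)
        rwa [Nat.card_zpowers, hx2] at this
    have hrel : Odd (M.relIndex K) := by
      have h1 := Subgroup.relIndex_ker K π
      rw [hπ, QuotientGroup.ker_mk'] at h1
      rw [h1, hK, Subgroup.map_comap_eq_self_of_surjective (QuotientGroup.mk'_surjective M)]
      exact Nat.coprime_two_right.mp CfsgLib.PCore.pPrimeCore_coprime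
    have hKM : K ≤ M := CfsgLib.Involutions.WCC.le_of_odd_quotient M K le_sup_left hMK hcard hrel
    obtain ⟨y, rfl⟩ := QuotientGroup.mk'_surjective M o'
    exact (QuotientGroup.eq_one_iff y).2 (hKM ho')
  rw [ho'1, one_mul] at hgq
  exact key g (hgq ▸ hq)

/-- A strongly closed abelian 2-subgroup of a subgroup `K`, on which the normaliser induces a
2-group, is normal in `K` modulo the core. -/
theorem exists_core_mul {G : Type u} [Group G] [Finite G] {K A : Subgroup G} (hAK : A ≤ K)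
    (hA : IsPGroup 2 A) (hab : ∀ x ∈ A, ∀ y ∈ A, x * y = y * x)
    (hcl : ∀ P : Subgroup G, IsPGroup 2 P → P ≤ K → A ≤ P → ∀ x ∈ A, ∀ g ∈ K,
      g * x * g⁻¹ ∈ P → g * x * g⁻¹ ∈ A)
    (hodd : ∀ k ∈ K, k ∈ normalizer (A : Set G) → Odd (orderOf k) → ∀ x ∈ A, k * x = x * k)
    {g : G} (hg : g ∈ K) :
    ∃ o ∈ core K, ∃ k ∈ K, k ∈ normalizer (A : Set G) ∧ g = o * k := by
  have hAn : ∀ k : K, k ∈ normalizer ((A.subgroupOf K : Subgroup K) : Set K) →
      (k : G) ∈ normalizer (A : Set G) := by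
    intro k hk
    refine mem_normalizer_of_cj (eq_of_le_of_card_ge ?_ (card_cj (k : G) A).ge)
    rintro _ ⟨y, hy, rfl⟩
    exact (Subgroup.mem_normalizer_iff.1 hk ⟨y, hAK hy⟩).1 hy
  obtain ⟨o, ho, k, hk, he⟩ := exists_core_mul_aux (Nat.card K) K (A.subgroupOf K) rfl
    (hA.of_injective (subgroupOfEquivOfLe hAK).toMonoidHom (subgroupOfEquivOfLe hAK).injective)
    (fun x hx y hy => Subtype.ext (hab _ hx _ hy))
    (fun P hP hAP x hx h hh => hcl (P.map K.subtype) (hP.map _) (map_subtype_le _)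
      (fun a ha => ⟨⟨a, hAK ha⟩, hAP ha, rfl⟩) _ hx h h.2 ⟨_, hh, rfl⟩)
    (fun k hk hko x hx => Subtype.ext
      (hodd k k.2 (hAn k hk) (by rwa [Subgroup.orderOf_coe]) _ hx)) ⟨g, hg⟩
  exact ⟨o, ⟨o, ho, rfl⟩, k, k.2, hAn k hk, congrArg Subtype.val he⟩

end CfsgLib.AltEightThree
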